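import Groth.Agent.H13CInt.Spread

/-!
# Regular ideals through surjections
-/

universe u

open CategoryTheory AlgebraicGeometry

namespace H13CInt

lemma isRegularIdeal_quotient_iff {A B : Type u} [CommRing A] [CommRing B] {π : A →+* B}
    (hπ : Function.Surjective π) (L : Ideal B) :
    CInt.IsRegularIdeal ((L.comap π).map (Ideal.Quotient.mk (RingHom.ker π))) ↔
      CInt.IsRegularIdeal L := by
  rw [← isRegularIdeal_map_ringEquiv_iff (RingHom.quotientKerEquivOfSurjective hπ), Ideal.map_map]
  have : (↑(RingHom.quotientKerEquivOfSurjective hπ) : A ⧸ RingHom.ker π →+* B).comp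
      (Ideal.Quotient.mk (RingHom.ker π)) = π := by ext; rfl
  rw [this, Ideal.map_comap_of_surjective _ hπ]

/-- The ideal of a composite closed immersion at a point, with the local algebra facts. -/
lemma ker_stalkMap_comp {X Y Z : Scheme.{u}} (f : Y ⟶ X) (g : Z ⟶ Y) (z : Z) :
    RingHom.ker ((g ≫ f).stalkMap z).hom =
      (RingHom.ker (g.stalkMap z).hom).comap (f.stalkMap (g z)).hom := by
  rw [Scheme.Hom.stalkMap_comp, RingHom.comap_ker]
  rfl

lemma ker_le_comap_ker {A B C : Type u} [CommRing A] [CommRing B] [CommRing C] (π : A →+* B)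
    (σ : B →+* C) : RingHom.ker π ≤ (RingHom.ker σ).comap π :=
  fun a ha => by simp [Ideal.mem_comap, RingHom.mem_ker.1 ha]

lemma ker_stalkMap_le_maximalIdeal {X Y : Scheme.{u}} (j : Y ⟶ X) (y : Y) :
    RingHom.ker (j.stalkMap y).hom ≤ IsLocalRing.maximalIdeal (X.presheaf.stalk (j y)) :=
  IsLocalRing.le_maximalIdeal (RingHom.ker_ne_top _)

end H13CInt
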