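import Groth.Agent.H13CInt.MinGen
import Groth.Agent.H29Blow.Basic
import Groth.Agent.H29Blow.Stalk
import Groth.Prelude.Def_Mor2

/-!
# Regular closed immersions near a point via stalks
-/

universe u

open RingTheory.Sequence CategoryTheory Limits AlgebraicGeometry TopologicalSpace

namespace H13CInt

section Ring

lemma ofList_take_ofFn {R : Type*} [CommRing R] {n : ℕ} (f : Fin n → R) (i : Fin n) :
    Ideal.ofList ((List.ofFn f).take i) = Ideal.span (f '' Set.Iio i) := by
  refine congrArg Ideal.span (Set.ext fun r => ?_)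
  simp only [List.mem_take_iff_getElem, List.getElem_ofFn, List.length_ofFn, Set.mem_setOf_eq,
    Set.mem_image, Set.mem_Iio]
  constructor
  · rintro ⟨k, hk, rfl⟩
    exact ⟨⟨k, (lt_min_iff.1 hk).2⟩, (lt_min_iff.1 hk).1, rfl⟩
  · rintro ⟨k, hk, rfl⟩
    exact ⟨k, lt_min_iff.2 ⟨hk, k.2⟩, rfl⟩

lemma isWeaklyRegular_ofFn_iff {R : Type*} [CommRing R] {n : ℕ} (f : Fin n → R) :
    IsWeaklyRegular R (List.ofFn f) ↔
      ∀ i : Fin n, ∀ c : R, c * f i ∈ Ideal.span (f '' Set.Iio i) →
        c ∈ Ideal.span (f '' Set.Iio i) := by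
  rw [isWeaklyRegular_iff_Fin]
  refine (finCongr (List.length_ofFn (f := f))).forall_congr fun i => ?_
  rw [isSMulRegular_quotient_iff_mem_of_smul_mem, ← ofList_take_ofFn]
  simp [mul_comm, smul_eq_mul, Ideal.mul_top]
  rfl

/-- A regular sequence generating an ideal at a prime spreads out to a basic open. -/
theorem exists_away_isWeaklyRegular {B A : Type u} [CommRing B] [CommRing A] [Algebra B A]
    [IsNoetherianRing B] (P : Ideal B) [P.IsPrime] [IsLocalization.AtPrime A P] (I : Ideal B)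
    {n : ℕ} (f : Fin n → A) (hf : IsWeaklyRegular A (List.ofFn f))
    (hI : I.map (algebraMap B A) = Ideal.span (Set.range f)) :
    ∃ t ∉ P, ∃ b : Fin n → B, ∀ (T : Type u) [CommRing T] [Algebra B T] [IsLocalization.Away t T],
      I.map (algebraMap B T) = Ideal.span (Set.range (algebraMap B T ∘ b)) ∧
        IsWeaklyRegular T (List.ofFn (algebraMap B T ∘ b)) := by
  classical
  have hex : ∀ i, ∃ b ∈ I, ∃ u : Aˣ, algebraMap B A b = f i * u := by
    intro i
    obtain ⟨⟨b₀, s⟩, hb₀⟩ := IsLocalization.surj P.primeCompl (f i)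
    have hmem : algebraMap B A b₀ ∈ I.map (algebraMap B A) := by
      rw [hI, ← hb₀]; exact Ideal.mul_mem_right _ _ (Ideal.subset_span ⟨i, rfl⟩)
    obtain ⟨t₀, ht₀, ht₀b⟩ :=
      (IsLocalization.algebraMap_mem_map_algebraMap_iff P.primeCompl A I b₀).mp hmem
    refine ⟨t₀ * b₀, ht₀b,
      (IsLocalization.map_units A ⟨t₀, ht₀⟩).unit * (IsLocalization.map_units A s).unit, ?_⟩
    simp only [Units.val_mul, IsUnit.unit_spec, map_mul, ← hb₀]
    ring
  choose b hbI u hu using hex
  have himg : ∀ S : Set (Fin n), (Ideal.span (b '' S)).map (algebraMap B A) = Ideal.span (f '' S) := by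
    intro S
    rw [Ideal.map_span]
    refine le_antisymm (Ideal.span_le.2 ?_) (Ideal.span_le.2 ?_)
    · rintro _ ⟨_, ⟨i, hi, rfl⟩, rfl⟩
      rw [hu i]
      exact Ideal.mul_mem_right _ _ (Ideal.subset_span ⟨i, hi, rfl⟩)
    · rintro _ ⟨i, hi, rfl⟩
      have : f i = algebraMap B A (b i) * ↑(u i)⁻¹ := by simp [hu i]
      rw [this]
      exact Ideal.mul_mem_right _ _ (Ideal.subset_span ⟨_, ⟨i, hi, rfl⟩, rfl⟩)
  let J : Fin n → Ideal B := fun i => Ideal.span (b '' Set.Iio i)
  let K : Fin n → Ideal B := fun i => (J i).colon {b i}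
  have hK : ∀ i c, c ∈ K i ↔ c * b i ∈ J i := fun i c => by
    simp [K, Submodule.mem_colon_singleton]
  have hfreg := (isWeaklyRegular_ofFn_iff f).1 hf
  have hkill : ∀ (L L' : Ideal B), L.map (algebraMap B A) ≤ L'.map (algebraMap B A) →
      ∃ t ∉ P, ∀ c ∈ L, t * c ∈ L' := by
    intro L L' hLL
    obtain ⟨s, hs⟩ := IsNoetherian.noetherian L
    choose! t ht htc using fun c (hc : c ∈ s) =>
      (IsLocalization.algebraMap_mem_map_algebraMap_iff P.primeCompl A L' c).mp
        (hLL (Ideal.mem_map_of_mem _ (hs ▸ Ideal.subset_span hc)))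
    refine ⟨∏ c ∈ s, t c, fun h => ?_, fun c hc => ?_⟩
    · obtain ⟨c, hc, hcP⟩ := (Ideal.IsPrime.prod_mem_iff).mp h
      exact ht c hc hcP
    · rw [← hs] at hc
      induction hc using Submodule.span_induction with
      | mem c hc =>
        obtain ⟨d, hd⟩ := Finset.dvd_prod_of_mem t hc
        rw [hd, mul_comm (t c), mul_assoc]
        exact Ideal.mul_mem_left _ _ (htc c hc)
      | zero => simp
      | add x y _ _ hx hy => rw [mul_add]; exact add_mem hx hy
      | smul r x _ hx => rw [smul_eq_mul, mul_left_comm]; exact Ideal.mul_mem_left _ _ hx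
  obtain ⟨t₀, ht₀, ht₀'⟩ := hkill I (Ideal.span (Set.range b)) (by
    rw [← Set.image_univ, himg, Set.image_univ, hI])
  have hKJ : ∀ i, ∃ t ∉ P, ∀ c ∈ K i, t * c ∈ J i := by
    intro i
    refine hkill _ _ (Ideal.map_le_iff_le_comap.2 fun c hc => ?_)
    rw [Ideal.mem_comap, himg]
    refine hfreg i _ ?_
    have h := Ideal.mem_map_of_mem (algebraMap B A) ((hK i c).1 hc)
    rw [himg, map_mul, hu i, ← mul_assoc] at h
    exact (Ideal.mul_unit_mem_iff_mem _ (u i).isUnit).1 h
  choose t ht ht' using hKJ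
  refine ⟨t₀ * ∏ i, t i, fun h => ?_, b, fun T _ _ _ => ?_⟩
  · rcases (Ideal.IsPrime.mem_or_mem ‹_› h) with h | h
    · exact ht₀ h
    · obtain ⟨i, -, hi⟩ := (Ideal.IsPrime.prod_mem_iff).mp h
      exact ht i hi
  set tt := t₀ * ∏ i, t i with htt
  have htu : IsUnit (algebraMap B T tt) := IsLocalization.Away.algebraMap_isUnit tt
  have hdiv : ∀ (L L' : Ideal B) (s : B), s ∣ tt → (∀ c ∈ L, s * c ∈ L') →
      L.map (algebraMap B T) ≤ L'.map (algebraMap B T) := by
    intro L L' s hs hL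
    refine Ideal.map_le_iff_le_comap.2 fun c hc => ?_
    have := Ideal.mem_map_of_mem (algebraMap B T) (hL c hc)
    rw [map_mul] at this
    exact (Ideal.unit_mul_mem_iff_mem _ (isUnit_of_dvd_unit (map_dvd _ hs) htu)).1 this
  constructor
  · rw [Set.range_comp, ← Ideal.map_span]
    exact le_antisymm (hdiv _ _ _ (dvd_mul_right _ _) ht₀')
      (Ideal.map_mono (Ideal.span_le.2 (Set.range_subset_iff.2 hbI)))
  · rw [isWeaklyRegular_ofFn_iff]
    intro i c hc
    rw [Set.image_comp, ← Ideal.map_span] at hc ⊢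
    obtain ⟨⟨d, s⟩, hds⟩ := IsLocalization.surj (Submonoid.powers tt) c
    have hds' : c * algebraMap B T s = algebraMap B T d := hds
    have h1 : algebraMap B T (d * b i) ∈ (J i).map (algebraMap B T) := by
      rw [map_mul, ← hds', mul_right_comm]
      exact Ideal.mul_mem_right _ _ hc
    obtain ⟨r, hr, hr'⟩ :=
      (IsLocalization.algebraMap_mem_map_algebraMap_iff (Submonoid.powers tt) T (J i) _).mp h1
    have h2 : algebraMap B T (r * d) ∈ (J i).map (algebraMap B T) :=
      hdiv (K i) (J i) (t i) ((Finset.dvd_prod_of_mem t (Finset.mem_univ i)).trans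
        (dvd_mul_left _ _)) (ht' i) (Ideal.mem_map_of_mem _ ((hK i _).2 (by rwa [mul_assoc])))
    rw [map_mul, Ideal.unit_mul_mem_iff_mem _ (IsLocalization.map_units T ⟨r, hr⟩), ← hds',
      Ideal.mul_unit_mem_iff_mem _ (IsLocalization.map_units T s)] at h2
    exact h2

lemma isRegular_map_ringEquiv {R S : Type u} [CommRing R] [CommRing S] (e : R ≃+* S) {rs : List R}
    (h : IsRegular R rs) : IsRegular S (rs.map e) := by
  refine (AddEquiv.isRegular_congr (e := e.toAddEquiv) ?_).1 h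
  rw [List.forall₂_map_right_iff]
  exact List.forall₂_same.2 fun r _ x => map_mul e r x

lemma isRegularIdeal_map_ringEquiv {R S : Type u} [CommRing R] [CommRing S] (e : R ≃+* S)
    {I : Ideal R} (h : CInt.IsRegularIdeal I) : CInt.IsRegularIdeal (I.map (e : R →+* S)) := by
  obtain ⟨rs, h1, rfl⟩ := h
  exact ⟨_, isRegular_map_ringEquiv e h1, by rw [Ideal.map_ofList]; rfl⟩

lemma isRegularIdeal_map_ringEquiv_iff {R S : Type u} [CommRing R] [CommRing S] (e : R ≃+* S)
    {I : Ideal R} : CInt.IsRegularIdeal (I.map (e : R →+* S)) ↔ CInt.IsRegularIdeal I := by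
  refine ⟨fun h => ?_, isRegularIdeal_map_ringEquiv e⟩
  have := isRegularIdeal_map_ringEquiv e.symm h
  rwa [Ideal.map_map, RingEquiv.symm_comp, Ideal.map_id] at this

end Ring

lemma isRegularIdeal_ker_of_arrowIso {A B A' B' : CommRingCat.{u}} {f : A ⟶ B} {f' : A' ⟶ B'}
    (e : Arrow.mk f ≅ Arrow.mk f') (h : CInt.IsRegularIdeal (RingHom.ker f.hom)) :
    CInt.IsRegularIdeal (RingHom.ker f'.hom) := by
  let eA : A ≅ A' := Arrow.leftFunc.mapIso e
  let eB : B ≅ B' := Arrow.rightFunc.mapIso e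
  have w : eA.hom ≫ f' = f ≫ eB.hom := e.hom.w
  have h1 : (RingHom.ker f'.hom).comap eA.hom.hom = RingHom.ker f.hom := by
    rw [RingHom.comap_ker, ← CommRingCat.hom_comp, w, CommRingCat.hom_comp,
      RingHom.ker_comp_of_injective _ (ConcreteCategory.bijective_of_isIso eB.hom).1]
  rw [← Ideal.map_comap_of_surjective _ (ConcreteCategory.bijective_of_isIso eA.hom).2
    (RingHom.ker f'.hom), h1]
  exact isRegularIdeal_map_ringEquiv eA.commRingCatIsoToRingEquiv h

section Scheme

variable {X Y : Scheme.{u}}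

/-- The kernel of the stalk map of a closed immersion. -/
theorem ker_stalkMap (j : Y ⟶ X) [IsClosedImmersion j] (y : Y) (V : X.affineOpens)
    (hy : j y ∈ V.1) :
    RingHom.ker (j.stalkMap y).hom = (j.ker.ideal V).map (X.presheaf.germ V.1 (j y) hy).hom := by
  have key : ∀ (f : Y ⟶ X) (_ : f = j.toImage ≫ j.ker.subschemeι) (hy : f y ∈ V.1),
      RingHom.ker (f.stalkMap y).hom = (j.ker.ideal V).map (X.presheaf.germ V.1 (f y) hy).hom := by
    rintro f rfl hy
    rw [Scheme.Hom.stalkMap_comp]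
    erw [CommRingCat.hom_comp]
    rw [RingHom.ker_comp_of_injective _
        ((ConcreteCategory.bijective_of_isIso (j.toImage.stalkMap y)).1)]
    exact H29Blow.ker_stalkMap_subschemeι _ _ _ hy
  exact key j j.toImage_imageι.symm hy

/-- At every point, the stalk kernel of a regular closed immersion is a regular ideal. -/
theorem isRegularIdeal_ker_stalkMap [IsLocallyNoetherian X] (j : Y ⟶ X)
    (hj : Mor2.IsRegularClosedImmersion j) (y : Y) :
    CInt.IsRegularIdeal (RingHom.ker (j.stalkMap y).hom) := by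
  haveI := hj.1
  obtain ⟨U, hU, hyU, rs, hrs, hI⟩ := hj.2 y
  letI := TopCat.Presheaf.algebra_section_stalk X.presheaf (⟨j y, hyU⟩ : U)
  haveI := hU.isLocalization_stalk ⟨j y, hyU⟩
  have hker := ker_stalkMap j y ⟨U, hU⟩ hyU
  rw [hI] at hker
  refine ⟨rs.map (algebraMap Γ(X, U) (X.presheaf.stalk (j y))), ?_, ?_⟩
  · refine hrs.toIsWeaklyRegular.isRegular_of_isLocalization_of_mem _
      (hU.primeIdealOf ⟨j y, hyU⟩).asIdeal fun r hr => ?_
    by_contra hr'
    have hu : IsUnit (algebraMap Γ(X, U) (X.presheaf.stalk (j y)) r) :=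
      IsLocalization.map_units (X.presheaf.stalk (j y))
        (⟨r, hr'⟩ : (hU.primeIdealOf ⟨j y, hyU⟩).asIdeal.primeCompl)
    have : (j.stalkMap y).hom (algebraMap Γ(X, U) (X.presheaf.stalk (j y)) r) = 0 :=
      RingHom.mem_ker.1 (hker ▸ Ideal.mem_map_of_mem _ (Ideal.subset_span hr))
    exact not_isUnit_zero (this ▸ hu.map (j.stalkMap y).hom)
  · rw [hker, Ideal.map_ofList]; rfl

/-- A closed immersion is a regular immersion near a point iff the stalk kernel is a regular
ideal. -/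
theorem regularNear_iff [IsLocallyNoetherian X] (j : Y ⟶ X) [IsClosedImmersion j] (y : Y) :
    (∃ V : X.Opens, j y ∈ V ∧ Mor2.IsRegularClosedImmersion (j ∣_ V)) ↔
      CInt.IsRegularIdeal (RingHom.ker (j.stalkMap y).hom) := by
  constructor
  · rintro ⟨V, hV, hreg⟩
    have h := isRegularIdeal_ker_stalkMap (j ∣_ V) hreg ⟨y, hV⟩
    exact isRegularIdeal_ker_of_arrowIso (morphismRestrictStalkMap j V ⟨y, hV⟩) h
  · intro h
    obtain ⟨_, ⟨U, hU, rfl⟩, hyU, -⟩ :=
      X.isBasis_affineOpens.exists_subset_of_mem_open (Set.mem_univ (j y)) isOpen_univ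
    obtain ⟨n, f, hf, hspan⟩ := exists_fun_of_isRegularIdeal h
    rw [ker_stalkMap j y ⟨U, hU⟩ hyU] at hspan
    haveI : IsNoetherianRing Γ(X, U) := IsLocallyNoetherian.component_noetherian ⟨U, hU⟩
    letI := TopCat.Presheaf.algebra_section_stalk X.presheaf (⟨j y, hyU⟩ : U)
    haveI := hU.isLocalization_stalk ⟨j y, hyU⟩
    obtain ⟨t, ht, b, hT⟩ := exists_away_isWeaklyRegular (A := X.presheaf.stalk (j y))
      (hU.primeIdealOf ⟨j y, hyU⟩).asIdeal (j.ker.ideal ⟨U, hU⟩) f hf.toIsWeaklyRegular hspan.symm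
    let W := X.affineBasicOpen (U := ⟨U, hU⟩) t
    letI : Algebra Γ(X, U) Γ(X, W.1) := (X.presheaf.map (homOfLE (X.basicOpen_le t)).op).hom.toAlgebra
    haveI : IsLocalization.Away t Γ(X, W.1) := hU.isLocalization_basicOpen t
    obtain ⟨h1, h2⟩ := hT Γ(X, W.1)
    have hIW : j.ker.ideal W = Ideal.ofList (List.ofFn (algebraMap Γ(X, U) Γ(X, W.1) ∘ b)) := by
      rw [ofList_ofFn, ← h1, ← j.ker.map_ideal (U := W) (V := ⟨U, hU⟩) (X.basicOpen_le t)]
      rfl
    have hyW : j y ∈ W.1 := by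
      change j y ∈ X.basicOpen t
      rw [X.mem_basicOpen _ (j y) hyU]
      exact IsLocalization.map_units (X.presheaf.stalk (j y))
        (⟨t, ht⟩ : (hU.primeIdealOf ⟨j y, hyU⟩).asIdeal.primeCompl)
    refine ⟨W.1, hyW, MorphismProperty.of_isPullback (P := @IsClosedImmersion)
      (isPullback_morphismRestrict j W.1).flip inferInstance, fun z => ⟨⊤, @isAffineOpen_top _ W.2, trivial,
      (List.ofFn (algebraMap Γ(X, U) Γ(X, W.1) ∘ b)).map
        W.1.topIso.symm.commRingCatIsoToRingEquiv, ?_, ?_⟩⟩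
    · refine isRegular_map_ringEquiv _ ⟨h2, fun htop => ?_⟩
      rw [smul_eq_mul, Ideal.mul_top, ← hIW] at htop
      have := ker_stalkMap j y W hyW
      rw [← htop, Ideal.map_top] at this
      exact RingHom.ker_ne_top _ this
    · have hk : (j ∣_ W.1).ker = j.ker.comap W.1.ι := by
        rw [← Scheme.IdealSheafData.ker_fst_of_isClosedImmersion,
          ← Scheme.Hom.ker_comp_of_isIso (isPullback_morphismRestrict j W.1).isoPullback.hom
            (pullback.fst W.1.ι j),
          IsPullback.isoPullback_hom_fst]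
      rw [hk, H29Blow.ideal_comap_ι, hIW, Ideal.map_ofList]
      rfl

end Scheme

end H13CInt
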