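import Groth.Agent.H13CInt.FibreDim

/-!
# Depth of fibre stalks
-/

universe u

open CategoryTheory Limits AlgebraicGeometry TopologicalSpace IsLocalRing Groth.Agent

namespace H13CInt

theorem depth_eq_of_ringEquiv {R S : Type u} [CommRing R] [CommRing S] [IsLocalRing R]
    [IsLocalRing S] (e : R ≃+* S) : LocCoh.depth S S = LocCoh.depth R R := by
  let := e.toRingHom.toAlgebra
  rw [H8Props.FlatDepth.depth_eq_of_surjective (R := R) e.surjective]
  exact (H4Depth.depth_congr (LinearEquiv.ofBijective (Algebra.linearMap R S) e.bijective)).symm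

variable {X S : Scheme.{u}}

theorem depth_stalk_ge_fiber [IsLocallyNoetherian X] [IsLocallyNoetherian S] (f : X ⟶ S) [Flat f]
    (x : X) :
    LocCoh.depth (CInt.fiberStalk f x) (CInt.fiberStalk f x) ≤
      LocCoh.depth (X.presheaf.stalk x) (X.presheaf.stalk x) := by
  letI := (f.stalkMap x).hom.toAlgebra
  haveI : IsLocalHom (algebraMap (S.presheaf.stalk (f x)) (X.presheaf.stalk x)) :=
    inferInstanceAs (IsLocalHom (f.stalkMap x).hom)
  haveI : Module.Flat (S.presheaf.stalk (f x)) (X.presheaf.stalk x) := Flat.stalkMap f x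
  haveI := H8Props.FlatDepth.isLocalRing_fibre (S.presheaf.stalk (f x)) (X.presheaf.stalk x)
  rw [H8Props.FlatDepth.depth_eq_add (S.presheaf.stalk (f x)) (X.presheaf.stalk x)]
  refine (le_of_eq ?_).trans le_add_self
  exact depth_eq_of_ringEquiv (fiberStalkEquiv f x)

theorem isNoetherianRing_fiberStalk [IsLocallyNoetherian X] (f : X ⟶ S) (x : X) :
    IsNoetherianRing (CInt.fiberStalk f x) :=
  isNoetherianRing_fiber_stalk f (f.base x) (f.asFiber x)

theorem dim_eq_depth_of_CM {R : Type u} [CommRing R]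
    (h : LocCoh.IsCohenMacaulayLocalRing R) :
    ringKrullDim R = ((LocCoh.depth R R : ℕ∞) : WithBot ℕ∞) :=
  (H8Props.FlatDepth.isCM_iff_dim R).1 h

end H13CInt
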