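import Groth.Prelude.Def_CInt
import Groth.Agent.H8Props.FibreStalk
import Groth.Agent.H8Props.FlatDepth
import Groth.Agent.H8Props.FlatFibreDim
import Mathlib.RingTheory.Ideal.KrullsHeightTheorem
import Mathlib.AlgebraicGeometry.Fiber
import Mathlib.AlgebraicGeometry.Morphisms.FlatDescent

/-!
# Dimensions of fibre stalks
-/

universe u

open CategoryTheory Limits AlgebraicGeometry TopologicalSpace IsLocalRing

namespace H13CInt

theorem ringKrullDim_le_add (A B : Type u) [CommRing A] [CommRing B] [IsLocalRing A]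
    [IsLocalRing B] [IsNoetherianRing A] [IsNoetherianRing B] [Algebra A B] [IsLocalHom (algebraMap A B)] :
    ringKrullDim B ≤ ringKrullDim A + ringKrullDim (B ⧸ (maximalIdeal A).map (algebraMap A B)) := by
  have : (maximalIdeal B).LiesOver (maximalIdeal A) := ⟨(maximalIdeal_comap _).symm⟩
  have h := Ideal.height_le_height_add_of_liesOver (maximalIdeal A) (maximalIdeal B)
  haveI : Nontrivial (B ⧸ (maximalIdeal A).map (algebraMap A B)) :=
    Ideal.Quotient.nontrivial_iff.mpr (ne_top_of_le_ne_top (maximalIdeal.isMaximal B).ne_top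
      (map_maximalIdeal_le (algebraMap A B)))
  haveI : IsLocalRing (B ⧸ (maximalIdeal A).map (algebraMap A B)) :=
    .of_surjective' _ Ideal.Quotient.mk_surjective
  rw [map_maximalIdeal_of_surjective _ Ideal.Quotient.mk_surjective] at h
  rw [← maximalIdeal_height_eq_ringKrullDim, ← maximalIdeal_height_eq_ringKrullDim,
    ← maximalIdeal_height_eq_ringKrullDim, ← WithBot.coe_add]
  exact WithBot.coe_le_coe.2 h

variable {X Y : Scheme.{u}}

/-- The fibre stalk is the stalk modulo the maximal ideal of the base stalk. -/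
noncomputable def fiberStalkEquiv (f : X ⟶ Y) (x : X) :
    X.presheaf.stalk x ⧸ (maximalIdeal (Y.presheaf.stalk (f x))).map (f.stalkMap x).hom ≃+*
      CInt.fiberStalk f x :=
  Groth.Agent.H8Props.FibreStalk.asFiberStalkEquiv f x

theorem fiberStalk_dim_le (f : X ⟶ Y) (x : X) :
    ringKrullDim (CInt.fiberStalk f x) ≤ ringKrullDim (X.presheaf.stalk x) := by
  rw [← ringKrullDim_eq_of_ringEquiv (fiberStalkEquiv f x)]
  exact ringKrullDim_quotient_le _

instance isNoetherianRing_fiber_stalk [IsLocallyNoetherian X] (f : X ⟶ Y) (y : Y) (w : f.fiber y) :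
    IsNoetherianRing ((f.fiber y).presheaf.stalk w) :=
  isNoetherianRing_of_surjective (X.presheaf.stalk (f.fiberι y w)) _ _
    ((f.fiberι y).stalkMap_surjective w)

theorem fiberι_injective (f : X ⟶ Y) (y : Y) : Function.Injective (f.fiberι y) :=
  (f.fiberι y).isEmbedding.injective

theorem fiberι_mem (f : X ⟶ Y) (y : Y) (w : f.fiber y) : f (f.fiberι y w) = y :=
  (f.range_fiberι y).subset (Set.mem_range_self w)

theorem exists_fiberι_eq (f : X ⟶ Y) (y : Y) (x : X) (h : f x = y) :
    ∃ w : f.fiber y, f.fiberι y w = x :=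
  (f.range_fiberι y).ge h

theorem fiber_stalk_dim_eq (f : X ⟶ Y) {y : Y} (w : f.fiber y) :
    ringKrullDim ((f.fiber y).presheaf.stalk w) =
      ringKrullDim (CInt.fiberStalk f (f.fiberι y w)) :=
  (Groth.Agent.H8Props.FieldDim.ringKrullDim_stalk_fiber_eq f w).2

/-- Some point of the same fibre has local dimension at most that of the image. -/
theorem exists_same_image_dim_le {P Q : Scheme.{u}} (h : P ⟶ Q) (z : Q) (hz : z ∈ Set.range h)
    (hN : ∀ p : P, IsNoetherianRing (P.presheaf.stalk p))
    [IsNoetherianRing (Q.presheaf.stalk z)] :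
    ∃ p : P, h p = z ∧ ringKrullDim (P.presheaf.stalk p) ≤ ringKrullDim (Q.presheaf.stalk z) := by
  obtain ⟨p₁, rfl⟩ := hz
  obtain ⟨C, hC, hpC⟩ : ∃ C ∈ irreducibleComponents (h.fiber (h p₁)), h.asFiber p₁ ∈ C :=
    ⟨irreducibleComponent (h.asFiber p₁), irreducibleComponent_mem_irreducibleComponents _,
      mem_irreducibleComponent⟩
  have hCc := isClosed_of_mem_irreducibleComponents C hC
  let w := hC.1.genericPoint
  have hw : IsGenericPoint w C := hC.1.isGenericPoint_genericPoint hCc
  have hdim : ringKrullDim ((h.fiber (h p₁)).presheaf.stalk w) = 0 := by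
    rw [ringKrullDim_stalk_eq_coheight, Order.coheight_eq_zero.2 ?_]
    · rfl
    intro v hv
    have hv' : v ⤳ w := hv
    have hsub : C ⊆ closure {v} := by
      rw [← hw.def]
      exact closure_minimal (Set.singleton_subset_iff.2 hv'.mem_closure) isClosed_closure
    have heq : closure {v} ⊆ C := hC.2 isIrreducible_singleton.closure hsub
    exact (hw.specializes (heq (subset_closure rfl)) : w ⤳ v)
  rw [fiber_stalk_dim_eq] at hdim
  refine ⟨h.fiberι _ w, fiberι_mem h _ w, ?_⟩
  set p := h.fiberι _ w
  have hp : h p = h p₁ := fiberι_mem h _ w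
  rw [← hp]
  haveI := hN p
  haveI : IsNoetherianRing (Q.presheaf.stalk (h p)) := hp ▸ ‹_›
  letI := (h.stalkMap p).hom.toAlgebra
  haveI : IsLocalHom (algebraMap (Q.presheaf.stalk (h p)) (P.presheaf.stalk p)) :=
    inferInstanceAs (IsLocalHom (h.stalkMap p).hom)
  refine (ringKrullDim_le_add (Q.presheaf.stalk (h p)) (P.presheaf.stalk p)).trans ?_
  rw [← ringKrullDim_eq_of_ringEquiv (fiberStalkEquiv h p)] at hdim
  rw [RingHom.algebraMap_toAlgebra, hdim, add_zero]

/-- For a flat morphism the local dimension does not drop. -/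
theorem dim_le_of_flat {P Q : Scheme.{u}} (h : P ⟶ Q) [Flat h] (p : P)
    [IsNoetherianRing (P.presheaf.stalk p)] [IsNoetherianRing (Q.presheaf.stalk (h p))] :
    ringKrullDim (Q.presheaf.stalk (h p)) ≤ ringKrullDim (P.presheaf.stalk p) := by
  letI := (h.stalkMap p).hom.toAlgebra
  haveI : IsLocalHom (algebraMap (Q.presheaf.stalk (h p)) (P.presheaf.stalk p)) :=
    inferInstanceAs (IsLocalHom (h.stalkMap p).hom)
  haveI : Module.Flat (Q.presheaf.stalk (h p)) (P.presheaf.stalk p) := Flat.stalkMap h p
  haveI := Groth.Agent.H8Props.FlatDepth.isLocalRing_fibre (Q.presheaf.stalk (h p))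
    (P.presheaf.stalk p)
  rw [Groth.Agent.H8Props.FlatDepth.ringKrullDim_eq_add (Q.presheaf.stalk (h p))
    (P.presheaf.stalk p)]
  exact le_add_of_nonneg_right ringKrullDim_nonneg_of_nontrivial

/-- `CInt.fiberMap` is a base change of `g`. -/
theorem isPullback_fiberMap {X' S : Scheme.{u}} (g : X' ⟶ X) (f : X ⟶ S) (s : S) :
    IsPullback (CInt.fiberMap g f s) ((g ≫ f).fiberι s) (f.fiberι s) g := by
  refine IsPullback.of_right ?_ ?_ (IsPullback.of_hasPullback f (S.fromSpecResidueField s)).flip
  · have : CInt.fiberMap g f s ≫ pullback.snd f (S.fromSpecResidueField s) =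
        pullback.snd (g ≫ f) (S.fromSpecResidueField s) :=
      (pullback.lift_snd _ _ _).trans (Category.comp_id _)
    show IsPullback (CInt.fiberMap g f s ≫ pullback.snd f (S.fromSpecResidueField s)) _ _ _
    erw [this]
    exact (IsPullback.of_hasPullback (g ≫ f) (S.fromSpecResidueField s)).flip
  · exact pullback.lift_fst _ _ _

instance surjective_fiberMap {X' S : Scheme.{u}} (g : X' ⟶ X) [Surjective g] (f : X ⟶ S) (s : S) :
    Surjective (CInt.fiberMap g f s) :=
  MorphismProperty.of_isPullback (P := @Surjective) (isPullback_fiberMap g f s).flip inferInstance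

instance flat_fiberMap {X' S : Scheme.{u}} (g : X' ⟶ X) [Flat g] (f : X ⟶ S) (s : S) :
    Flat (CInt.fiberMap g f s) :=
  MorphismProperty.of_isPullback (P := @Flat) (isPullback_fiberMap g f s).flip inferInstance

theorem fiberMap_fiberι {X' S : Scheme.{u}} (g : X' ⟶ X) (f : X ⟶ S) (s : S)
    (w : (g ≫ f).fiber s) : f.fiberι s (CInt.fiberMap g f s w) = g ((g ≫ f).fiberι s w) := by
  rw [← Scheme.Hom.comp_apply, (isPullback_fiberMap g f s).w, Scheme.Hom.comp_apply]

/-- The fibre of a base change maps to the fibre. -/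
noncomputable def fiberBC {S S' : Scheme.{u}} (f : X ⟶ S) (g : S' ⟶ S) (s : S') :
    (pullback.snd f g).fiber s ⟶ f.fiber (g s) :=
  pullback.lift ((pullback.snd f g).fiberι s ≫ pullback.fst f g)
    ((pullback.snd f g).fiberToSpecResidueField s ≫ Spec.map (g.residueFieldMap s)) (by
      rw [Category.assoc, Category.assoc, Scheme.Hom.SpecMap_residueFieldMap_fromSpecResidueField,
        pullback.condition, ← Category.assoc, ← Category.assoc]
      congr 1
      exact pullback.condition)

theorem fiberBC_fiberι {S S' : Scheme.{u}} (f : X ⟶ S) (g : S' ⟶ S) (s : S')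
    (w : (pullback.snd f g).fiber s) :
    f.fiberι (g s) (fiberBC f g s w) = pullback.fst f g ((pullback.snd f g).fiberι s w) := by
  have h : fiberBC f g s ≫ f.fiberι (g s) = (pullback.snd f g).fiberι s ≫ pullback.fst f g :=
    pullback.lift_fst _ _ _
  rw [← Scheme.Hom.comp_apply, h, Scheme.Hom.comp_apply]

theorem isPullback_fiberBC {S S' : Scheme.{u}} (f : X ⟶ S) (g : S' ⟶ S) (s : S') :
    IsPullback (fiberBC f g s) ((pullback.snd f g).fiberToSpecResidueField s)
      (f.fiberToSpecResidueField (g s)) (Spec.map (g.residueFieldMap s)) := by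
  refine IsPullback.of_right ?_ ?_ (IsPullback.of_hasPullback f (S.fromSpecResidueField (g s)))
  swap
  · exact pullback.lift_snd _ _ _
  have h : fiberBC f g s ≫ f.fiberι (g s) = (pullback.snd f g).fiberι s ≫ pullback.fst f g :=
    pullback.lift_fst _ _ _
  show IsPullback (fiberBC f g s ≫ f.fiberι (g s)) _ _ _
  rw [h, Scheme.Hom.SpecMap_residueFieldMap_fromSpecResidueField]
  exact (IsPullback.of_hasPullback (pullback.snd f g) (S'.fromSpecResidueField s)).paste_horiz
    (IsPullback.of_hasPullback f g)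

instance flat_fiberBC {S S' : Scheme.{u}} (f : X ⟶ S) (g : S' ⟶ S) (s : S') :
    Flat (fiberBC f g s) := by
  have : Flat (Spec.map (g.residueFieldMap s)) := by
    rw [HasRingHomProperty.Spec_iff (P := @Flat)]
    letI := (g.residueFieldMap s).hom.toAlgebra
    exact (inferInstance : Module.Flat (S.residueField (g s)) (S'.residueField s))
  exact MorphismProperty.of_isPullback (P := @Flat) (isPullback_fiberBC f g s).flip this

end H13CInt
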