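import Groth.Prelude.Def_CInt
import Mathlib.RingTheory.Nakayama
import Mathlib.RingTheory.AdicCompletion.Basic
import Mathlib.RingTheory.Finiteness.Ideal

/-!
# First Koszul homology and weakly regular sequences
-/

universe u v

open RingTheory.Sequence Pointwise

namespace H13CInt

variable {A : Type u} [CommRing A] {M : Type v} [AddCommGroup M] [Module A M]

/-- `∑ f i • m i`. -/
noncomputable def relMap {n : ℕ} (f : Fin n → A) : (Fin n → M) →ₗ[A] M :=
  ∑ i, f i • LinearMap.proj i

lemma relMap_apply {n : ℕ} (f : Fin n → A) (m : Fin n → M) : relMap f m = ∑ i, f i • m i := by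
  simp [relMap]

@[simp] lemma relMap_single {n : ℕ} (f : Fin n → A) (i : Fin n) (x : M) :
    relMap f (Pi.single i x) = f i • x := by
  rw [relMap_apply, Finset.sum_eq_single i (fun j _ hj => by simp [hj]) (by simp)]
  simp

/-- The span of the trivial relations. -/
def trivRel {n : ℕ} (f : Fin n → A) (M : Type v) [AddCommGroup M] [Module A M] :
    Submodule A (Fin n → M) :=
  Submodule.span A {v : Fin n → M | ∃ (i j : Fin n) (x : M),
    v = f j • (Pi.single i x : Fin n → M) - f i • (Pi.single j x : Fin n → M)}

lemma koszulH1Zero_iff {n : ℕ} (f : Fin n → A) :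
    CInt.KoszulH1Zero f M ↔ LinearMap.ker (relMap f (M := M)) ≤ trivRel f M := by
  refine ⟨fun h m hm => h m (by rwa [LinearMap.mem_ker, relMap_apply] at hm), fun h m hm => h ?_⟩
  rwa [LinearMap.mem_ker, relMap_apply]

lemma trivRel_mem {n : ℕ} (f : Fin n → A) (i j : Fin n) (x : M) :
    f j • (Pi.single i x : Fin n → M) - f i • (Pi.single j x : Fin n → M) ∈ trivRel f M :=
  Submodule.subset_span ⟨i, j, x, rfl⟩

lemma trivRel_le_ker {n : ℕ} (f : Fin n → A) :
    trivRel f M ≤ LinearMap.ker (relMap f (M := M)) := by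
  refine Submodule.span_le.2 ?_
  rintro _ ⟨i, j, x, rfl⟩
  simp [LinearMap.mem_ker, smul_smul, mul_comm]

lemma mem_ofList_ofFn_smul_top {n : ℕ} (f : Fin n → A) (x : M) :
    x ∈ Ideal.ofList (List.ofFn f) • (⊤ : Submodule A M) ↔ ∃ z : Fin n → M, relMap f z = x := by
  have hspan : Ideal.ofList (List.ofFn f) = Ideal.span (Set.range f) := by
    simp only [Ideal.ofList, List.mem_ofFn']
    rfl
  rw [hspan]
  constructor
  · intro hx
    refine Submodule.smul_induction_on hx (fun r hr m _ => ?_) (fun a b ha hb => ?_)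
    · obtain ⟨c, rfl⟩ := Ideal.mem_span_range_iff_exists_fun.1 hr
      exact ⟨fun i => c i • m, by simp [relMap_apply, Finset.sum_smul, smul_smul, mul_comm]⟩
    · obtain ⟨za, rfl⟩ := ha
      obtain ⟨zb, rfl⟩ := hb
      exact ⟨za + zb, map_add _ _ _⟩
  · rintro ⟨z, rfl⟩
    rw [relMap_apply]
    exact Submodule.sum_mem _ fun i _ =>
      Submodule.smul_mem_smul (Ideal.subset_span ⟨i, rfl⟩) Submodule.mem_top

/-- Extension by zero. -/
noncomputable def extZero (n : ℕ) : (Fin n → M) →ₗ[A] (Fin (n + 1) → M) where
  toFun v := Fin.snoc v 0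
  map_add' u v := by
    funext k
    refine Fin.lastCases ?_ (fun i => ?_) k <;> simp
  map_smul' c v := by
    funext k
    refine Fin.lastCases ?_ (fun i => ?_) k <;> simp

@[simp] lemma extZero_castSucc {n : ℕ} (v : Fin n → M) (i : Fin n) :
    extZero (A := A) n v i.castSucc = v i := by simp [extZero]

@[simp] lemma extZero_last {n : ℕ} (v : Fin n → M) :
    extZero (A := A) n v (Fin.last n) = 0 := by simp [extZero]

@[simp] lemma extZero_single {n : ℕ} (i : Fin n) (x : M) :
    extZero (A := A) n (Pi.single i x) = Pi.single i.castSucc x := by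
  funext k
  refine Fin.lastCases ?_ (fun j => ?_) k
  · rw [extZero_last, Pi.single_eq_of_ne (Fin.castSucc_lt_last i).ne']
  · rw [extZero_castSucc]
    by_cases h : j = i
    · subst h; simp
    · simp [h]

lemma relMap_castSucc_add {n : ℕ} (f : Fin (n + 1) → A) (m : Fin (n + 1) → M) :
    relMap f m = relMap (fun i => f i.castSucc) (fun i => m i.castSucc)
      + f (Fin.last n) • m (Fin.last n) := by
  simp [relMap_apply, Fin.sum_univ_castSucc]

lemma isWeaklyRegular_ofFn_succ_iff {n : ℕ} (f : Fin (n + 1) → A) :
    IsWeaklyRegular M (List.ofFn f) ↔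
      IsWeaklyRegular M (List.ofFn fun i => f i.castSucc) ∧
        ∀ x : M, (∃ z, relMap (fun i => f i.castSucc) z = f (Fin.last n) • x) →
          ∃ z, relMap (fun i => f i.castSucc) z = x := by
  rw [List.ofFn_succ', List.concat_eq_append, isWeaklyRegular_append_iff,
    isWeaklyRegular_singleton_iff]
  refine and_congr Iff.rfl ?_
  simp only [← mem_ofList_ofFn_smul_top]
  exact ⟨fun h x hx => mem_of_isSMulRegular_quotient_of_smul_mem h hx,
    fun h => (isSMulRegular_quotient_iff_mem_of_smul_mem _ _).2 h⟩

/-- A weakly regular sequence has vanishing first Koszul homology. -/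
theorem koszulH1Zero_of_isWeaklyRegular : ∀ {n : ℕ} (f : Fin n → A),
    IsWeaklyRegular M (List.ofFn f) → CInt.KoszulH1Zero f M := by
  intro n
  induction n with
  | zero =>
    intro f _ m _
    rw [Subsingleton.elim m 0]
    exact zero_mem _
  | succ n ih =>
    intro f hf
    rw [koszulH1Zero_iff]
    intro m hm
    obtain ⟨h1, h2⟩ := (isWeaklyRegular_ofFn_succ_iff f).1 hf
    rw [LinearMap.mem_ker, relMap_castSucc_add] at hm
    obtain ⟨z, hz⟩ := h2 (m (Fin.last n))
      ⟨-(fun i => m i.castSucc), by rw [map_neg]; exact neg_eq_of_add_eq_zero_right hm⟩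
    let T : Fin (n + 1) → M := ∑ i : Fin n,
      (f i.castSucc • (Pi.single (Fin.last n) (z i) : Fin (n + 1) → M)
        - f (Fin.last n) • (Pi.single i.castSucc (z i) : Fin (n + 1) → M))
    have hT : T ∈ trivRel f M := Submodule.sum_mem _ fun i _ => trivRel_mem f _ _ _
    have hlast : T (Fin.last n) = m (Fin.last n) := by
      rw [← hz, relMap_apply]
      simp [T, (Fin.castSucc_lt_last _).ne']
    have hv : (fun i => (m - T) i.castSucc) ∈
        trivRel (fun i => f i.castSucc) M := by
      refine ((koszulH1Zero_iff _).1 (ih _ h1)) ?_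
      have h0 : relMap f (m - T) = 0 := by
        rw [map_sub, LinearMap.mem_ker.1 (trivRel_le_ker f hT), sub_zero, relMap_castSucc_add, hm]
      rw [relMap_castSucc_add, Pi.sub_apply, hlast, sub_self, smul_zero, add_zero] at h0
      exact h0
    have hext : m - T = extZero (A := A) n (fun i => (m - T) i.castSucc) := by
      funext k
      refine Fin.lastCases ?_ (fun i => ?_) k
      · simp [hlast]
      · simp
    have hmap : (trivRel (fun i => f i.castSucc) M).map (extZero (A := A) n) ≤ trivRel f M := by
      rw [trivRel, Submodule.map_span_le]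
      rintro _ ⟨i, j, x, rfl⟩
      simpa using trivRel_mem f i.castSucc j.castSucc x
    have : m - T ∈ trivRel f M := hext ▸ hmap (Submodule.mem_map_of_mem hv)
    simpa using add_mem this hT

/-- Nakayama property of `a` on the subquotients of `M`. -/
def NakProp (a : A) (M : Type v) [AddCommGroup M] [Module A M] : Prop :=
  ∀ N N' : Submodule A M, (∀ x ∈ N, ∃ y ∈ N, x - a • y ∈ N') → N ≤ N'

lemma nakProp_pi {a : A} (h : NakProp a M) : ∀ n : ℕ, NakProp a (Fin n → M) := by
  intro n
  induction n with
  | zero =>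
    intro N N' _ x _
    rw [Subsingleton.elim x 0]
    exact zero_mem _
  | succ n ih =>
    intro N N₀ hN
    suffices N ≤ N₀ ⊓ N from this.trans inf_le_left
    set N' := N₀ ⊓ N
    have hN' : ∀ x ∈ N, ∃ y ∈ N, x - a • y ∈ N' := fun x hx => by
      obtain ⟨y, hy, hxy⟩ := hN x hx
      exact ⟨y, hy, hxy, N.sub_mem hx (N.smul_mem a hy)⟩
    have hle : N' ≤ N := inf_le_right
    clear_value N'
    let p : (Fin (n + 1) → M) →ₗ[A] M := LinearMap.proj (Fin.last n)
    have hp : N.map p ≤ N'.map p := h _ _ fun x₀ hx₀ => by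
      obtain ⟨x, hx, rfl⟩ := Submodule.mem_map.1 hx₀
      obtain ⟨y, hy, hxy⟩ := hN' x hx
      exact ⟨p y, Submodule.mem_map_of_mem hy, ⟨_, hxy, by simp [p]⟩⟩
    have hsplit : ∀ x ∈ N, ∃ n' ∈ N', ∃ w : Fin n → M,
        extZero (A := A) n w ∈ N ∧ x = n' + extZero (A := A) n w := by
      intro x hx
      obtain ⟨n', hn', he⟩ := Submodule.mem_map.1 (hp (Submodule.mem_map_of_mem hx))
      have hw : extZero (A := A) n (fun i => (x - n') i.castSucc) = x - n' := by
        funext k
        refine Fin.lastCases ?_ (fun i => ?_) k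
        · simp only [p, LinearMap.proj_apply] at he
          simp [he]
        · simp
      exact ⟨n', hn', _, hw ▸ N.sub_mem hx (hle hn'), by rw [hw]; abel⟩
    have hker : N.comap (extZero (A := A) n) ≤ N'.comap (extZero (A := A) n) := ih _ _ fun w hw => by
      obtain ⟨y, hy, hxy⟩ := hN' _ hw
      obtain ⟨n', hn', w', hw', rfl⟩ := hsplit y hy
      refine ⟨w', hw', ?_⟩
      rw [Submodule.mem_comap, map_sub, map_smul]
      have := N'.add_mem hxy (N'.smul_mem a hn')
      convert this using 1
      rw [smul_add]; abel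
    intro x hx
    obtain ⟨n', hn', w, hw, rfl⟩ := hsplit x hx
    exact N'.add_mem hn' (hker hw)

lemma nakProp_of_mem_jacobson [IsNoetherianRing A] [Module.Finite A M] {a : A}
    (ha : a ∈ (⊥ : Ideal A).jacobson) : NakProp a M := by
  intro N N' h
  refine Submodule.le_of_le_smul_of_le_jacobson_bot (I := Ideal.span {a})
    (IsNoetherian.noetherian N) ((Ideal.span_singleton_le_iff_mem _).2 ha) ?_
  intro x hx
  obtain ⟨y, hy, hxy⟩ := h x hx
  exact Submodule.mem_sup.2 ⟨_, hxy, _,
    Submodule.smul_mem_smul (Ideal.mem_span_singleton_self a) hy, by abel⟩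

lemma nakProp_of_isHausdorff {I : Ideal A} {a : A} (ha : a ∈ I)
    (hsep : ∀ (N : Submodule A M) (N' : Submodule A N), IsHausdorff I (N ⧸ N')) :
    NakProp a M := by
  intro N N' h x hx
  have hsur : ∀ (k : ℕ) (q : N ⧸ N'.comap N.subtype),
      q ∈ (I ^ k • ⊤ : Submodule A (N ⧸ N'.comap N.subtype)) := by
    intro k
    induction k with
    | zero => intro q; simp [Ideal.one_eq_top]
    | succ k ih =>
      intro q
      obtain ⟨⟨z, hz⟩, rfl⟩ := Submodule.Quotient.mk_surjective _ q
      obtain ⟨y, hy, hzy⟩ := h z hz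
      have : (Submodule.Quotient.mk ⟨z, hz⟩ : N ⧸ N'.comap N.subtype)
          = a • Submodule.Quotient.mk ⟨y, hy⟩ := by
        rw [← Submodule.Quotient.mk_smul, Submodule.Quotient.eq]
        simpa using hzy
      rw [this, pow_succ', Submodule.mul_smul]
      exact Submodule.smul_mem_smul ha (ih _)
  have := (hsep N (N'.comap N.subtype)).haus'
    (Submodule.Quotient.mk ⟨x, hx⟩) fun k => SModEq.zero.2 (hsur k _)
  simpa [Submodule.Quotient.mk_eq_zero] using this

/-- Vanishing first Koszul homology gives weak regularity, given the Nakayama property. -/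
theorem isWeaklyRegular_of_koszulH1Zero' : ∀ {n : ℕ} (f : Fin n → A),
    (∀ i, NakProp (f i) M) → CInt.KoszulH1Zero f M → IsWeaklyRegular M (List.ofFn f) := by
  intro n
  induction n with
  | zero =>
    intro f _ _
    rw [List.ofFn_zero]
    exact IsWeaklyRegular.nil A M
  | succ n ih =>
    intro f hgood hf
    rw [koszulH1Zero_iff] at hf
    set f' : Fin n → A := fun i => f i.castSucc
    have dec : ∀ v ∈ trivRel f M, ∃ t ∈ trivRel f' M, ∃ y : Fin n → M,
        (fun i => v i.castSucc) = t + f (Fin.last n) • y ∧ v (Fin.last n) = - relMap f' y := by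
      intro v hv
      induction hv using Submodule.span_induction with
      | mem v hv =>
        obtain ⟨i, j, x, rfl⟩ := hv
        induction i using Fin.lastCases with
        | last =>
          induction j using Fin.lastCases with
          | last => exact ⟨0, zero_mem _, 0, by funext k; simp, by simp⟩
          | cast j =>
            refine ⟨0, zero_mem _, -Pi.single j x, ?_, ?_⟩
            · funext k
              by_cases h : k = j
              · subst h; simp [(Fin.castSucc_lt_last k).ne]
              · simp [h, (Fin.castSucc_lt_last k).ne]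
            · simp [f', (Fin.castSucc_lt_last j).ne']
        | cast i =>
          induction j using Fin.lastCases with
          | last =>
            refine ⟨0, zero_mem _, Pi.single i x, ?_, ?_⟩
            · funext k
              by_cases h : k = i
              · subst h; simp [(Fin.castSucc_lt_last k).ne]
              · simp [h, (Fin.castSucc_lt_last k).ne]
            · simp [f', (Fin.castSucc_lt_last i).ne']
          | cast j =>
            refine ⟨_, trivRel_mem f' i j x, 0, ?_, ?_⟩
            · funext k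
              simp [f', Pi.single_apply]
            · simp [(Fin.castSucc_lt_last i).ne', (Fin.castSucc_lt_last j).ne']
      | zero => exact ⟨0, zero_mem _, 0, by funext k; simp, by simp⟩
      | add v w _ _ hv hw =>
        obtain ⟨t, ht, y, h1, h2⟩ := hv
        obtain ⟨t', ht', y', h1', h2'⟩ := hw
        refine ⟨t + t', add_mem ht ht', y + y', ?_, ?_⟩
        · rw [smul_add, ← add_add_add_comm, ← h1, ← h1']; rfl
        · simp [h2, h2']; abel
      | smul c v _ hv =>
        obtain ⟨t, ht, y, h1, h2⟩ := hv
        refine ⟨c • t, Submodule.smul_mem _ c ht, c • y, ?_, ?_⟩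
        · rw [smul_comm, ← smul_add, ← h1]; rfl
        · simp [h2]
    have hdec : ∀ v, relMap f v = 0 → ∃ t ∈ trivRel f' M, ∃ y : Fin n → M,
        (fun i => v i.castSucc) = t + f (Fin.last n) • y ∧ v (Fin.last n) = - relMap f' y :=
      fun v hv => dec v (hf (LinearMap.mem_ker.2 hv))
    have h1' : CInt.KoszulH1Zero f' M := by
      rw [koszulH1Zero_iff]
      refine nakProp_pi (hgood (Fin.last n)) n _ _ fun w hw => ?_
      obtain ⟨t, ht, y, e1, e2⟩ := hdec (extZero (A := A) n w) (by
        rw [relMap_castSucc_add]; simpa [f'] using hw)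
      simp only [extZero_castSucc] at e1
      simp only [extZero_last] at e2
      refine ⟨y, LinearMap.mem_ker.2 (neg_eq_zero.1 e2.symm), ?_⟩
      have : w - f (Fin.last n) • y = t := by
        rw [show w = t + f (Fin.last n) • y from e1]; abel
      rwa [this]
    refine (isWeaklyRegular_ofFn_succ_iff f).2 ⟨ih f' (fun i => hgood i.castSucc) h1', ?_⟩
    rintro x ⟨z, hz⟩
    let v : Fin (n + 1) → M := Fin.snoc (-z) x
    obtain ⟨t, -, y, -, e2⟩ := hdec v (by
      rw [relMap_castSucc_add]
      simp only [v, Fin.snoc_castSucc, Fin.snoc_last]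
      rw [show (fun i => (-z) i) = -z from rfl, map_neg, hz]
      abel)
    exact ⟨-y, by simpa [v] using e2.symm⟩

theorem isWeaklyRegular_of_koszulH1Zero [IsNoetherianRing A] [Module.Finite A M] {n : ℕ}
    (f : Fin n → A) (hrad : ∀ i, f i ∈ (⊥ : Ideal A).jacobson) (h : CInt.KoszulH1Zero f M) :
    IsWeaklyRegular M (List.ofFn f) :=
  isWeaklyRegular_of_koszulH1Zero' f (fun i => nakProp_of_mem_jacobson (hrad i)) h

end H13CInt
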