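import Groth.Agent.H13CInt.Koszul
import Groth.Agent.H02CA.RegularKer
import Groth.Agent.H4Depth.Regular
import Mathlib.LinearAlgebra.Matrix.NonsingularInverse
import Mathlib.LinearAlgebra.Dimension.Constructions
import Mathlib.RingTheory.KrullDimension.Regular
import Mathlib.RingTheory.Nakayama

/-!
# Minimal generators of ideals generated by regular sequences
-/

universe u

open RingTheory.Sequence IsLocalRing

namespace H13CInt

variable {A : Type u} [CommRing A]

lemma ofList_ofFn {n : ℕ} (g : Fin n → A) :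
    Ideal.ofList (List.ofFn g) = Ideal.span (Set.range g) := by
  simp only [Ideal.ofList, List.mem_ofFn']
  rfl

lemma span_range_append {a b : ℕ} (x : Fin a → A) (y : Fin b → A) :
    Ideal.span (Set.range (Fin.append x y)) =
      Ideal.span (Set.range x) ⊔ Ideal.span (Set.range y) := by
  rw [← ofList_ofFn, List.ofFn_fin_append, Ideal.ofList_append, ofList_ofFn, ofList_ofFn]

variable [IsLocalRing A]

/-- A minimal generating family: relations have coefficients in the maximal ideal. -/
def MinGen {n : ℕ} (g : Fin n → A) : Prop :=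
  ∀ c : Fin n → A, ∑ i, c i * g i = 0 → ∀ i, c i ∈ maximalIdeal A

lemma minGen_of_isWeaklyRegular {n : ℕ} {f : Fin n → A} (hf : IsWeaklyRegular A (List.ofFn f))
    (hm : ∀ i, f i ∈ maximalIdeal A) : MinGen f := by
  intro c hc i
  have h := (koszulH1Zero_iff f).1 (koszulH1Zero_of_isWeaklyRegular f hf)
    (show c ∈ LinearMap.ker (relMap f) by
      rw [LinearMap.mem_ker, relMap_apply, ← hc]
      simp [mul_comm])
  have hle : trivRel f A ≤ Submodule.pi Set.univ (fun _ : Fin n => maximalIdeal A) := by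
    refine Submodule.span_le.2 ?_
    rintro _ ⟨i, j, x, rfl⟩ k -
    exact Ideal.sub_mem _ (Ideal.mul_mem_right _ _ (hm j)) (Ideal.mul_mem_right _ _ (hm i))
  exact hle h i trivial

lemma isUnit_det_of_sub_one_mem {n : ℕ} (U : Matrix (Fin n) (Fin n) A)
    (h : ∀ i j, U i j - (1 : Matrix (Fin n) (Fin n) A) i j ∈ maximalIdeal A) : IsUnit U.det := by
  rw [← IsLocalRing.residue_ne_zero_iff_isUnit]
  have : (residue A).mapMatrix U = 1 := by
    ext i j
    have := (residue_eq_zero_iff _).2 (h i j)
    rw [map_sub, sub_eq_zero] at this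
    rw [RingHom.mapMatrix_apply, Matrix.map_apply, this]
    by_cases hij : i = j <;> simp [Matrix.one_apply, hij]
  rw [RingHom.map_det, this, Matrix.det_one]
  exact one_ne_zero

lemma exists_matrix {n p : ℕ} {f : Fin n → A} {g : Fin p → A}
    (h : Set.range g ⊆ Ideal.span (Set.range f)) :
    ∃ U : Matrix (Fin p) (Fin n) A, U.mulVec f = g := by
  choose c hc using fun k => Ideal.mem_span_range_iff_exists_fun.1 (h ⟨k, rfl⟩)
  exact ⟨c, funext fun k => by simp [Matrix.mulVec, dotProduct, hc k]⟩

lemma MinGen.eq_and_unit {n p : ℕ} {f : Fin n → A} {g : Fin p → A} (hf : MinGen f) (hg : MinGen g)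
    {U : Matrix (Fin p) (Fin n) A} {V : Matrix (Fin n) (Fin p) A}
    (hU : U.mulVec f = g) (hV : V.mulVec g = f) :
    n = p ∧ IsUnit (U * V).det := by
  have key : ∀ {q r : ℕ} {a : Fin q → A} {b : Fin r → A} (U : Matrix (Fin q) (Fin r) A)
      (V : Matrix (Fin r) (Fin q) A), U.mulVec b = a → V.mulVec a = b → MinGen a →
      IsUnit (U * V).det := by
    intro q r a b U V hU hV ha
    refine isUnit_det_of_sub_one_mem _ fun i j => ?_
    refine ha (fun j => (U * V) i j - (1 : Matrix (Fin q) (Fin q) A) i j) ?_ j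
    have : ((U * V) - 1).mulVec a = 0 := by
      rw [Matrix.sub_mulVec, ← Matrix.mulVec_mulVec, hV, hU, Matrix.one_mulVec, sub_self]
    exact congr_fun this i
  have hUV := key U V hU hV hg
  have hVU := key V U hV hU hf
  refine ⟨?_, hUV⟩
  have hbij : Function.Bijective U.mulVecLin := by
    constructor
    · have := Matrix.mulVec_injective_of_isUnit ((Matrix.isUnit_iff_isUnit_det _).2 hVU)
      intro x y hxy
      apply this
      simp only [Matrix.mulVecLin_apply] at hxy
      simp only [← Matrix.mulVec_mulVec, hxy]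
    · have := Matrix.mulVec_surjective_iff_isUnit.2 ((Matrix.isUnit_iff_isUnit_det _).2 hUV)
      intro y
      obtain ⟨x, rfl⟩ := this y
      exact ⟨V.mulVec x, by simp [Matrix.mulVec_mulVec]⟩
  simpa using LinearEquiv.finrank_eq (LinearEquiv.ofBijective U.mulVecLin hbij)

/-- Vanishing of `H₁` of the Koszul complex is invariant under invertible change of generators. -/
lemma koszulH1Zero_mulVec {n : ℕ} {f g : Fin n → A} (U : Matrix (Fin n) (Fin n) A)
    (hdet : IsUnit U.det) (hU : U.mulVec f = g) (h : CInt.KoszulH1Zero f A) :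
    CInt.KoszulH1Zero g A := by
  rw [koszulH1Zero_iff] at h ⊢
  have hrel : ∀ (f : Fin n → A) m, relMap f m = dotProduct f m := fun f m => by
    simp [relMap_apply, dotProduct]
  intro m hm
  have h0 := h (show U.transpose.mulVec m ∈ LinearMap.ker (relMap f) by
    rw [LinearMap.mem_ker, hrel, Matrix.dotProduct_mulVec, Matrix.vecMul_transpose, hU, ← hrel]
    exact LinearMap.mem_ker.1 hm)
  set V := U⁻¹
  have hV : V.mulVec g = f := by
    rw [← hU, Matrix.mulVec_mulVec, Matrix.nonsing_inv_mul _ hdet, Matrix.one_mulVec]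
  have hmap : (trivRel f A).map V.transpose.mulVecLin ≤ trivRel g A := by
    rw [trivRel, Submodule.map_span_le]
    rintro _ ⟨i, j, x, rfl⟩
    have key : V.transpose.mulVecLin
        (f j • (Pi.single i x : Fin n → A) - f i • (Pi.single j x : Fin n → A)) =
        ∑ k, ∑ l, (V i k * V j l) •
          (g l • (Pi.single k x : Fin n → A) - g k • (Pi.single l x : Fin n → A)) := by
      conv_lhs => rw [← hV]
      funext a
      simp [Matrix.mulVec, dotProduct, Pi.single_apply, Finset.sum_apply, mul_sub,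
        Finset.sum_sub_distrib, Finset.mul_sum, mul_comm, mul_left_comm]
      simp only [mul_assoc, mul_comm, mul_left_comm]
    rw [key]
    exact Submodule.sum_mem _ fun k _ => Submodule.sum_mem _ fun l _ =>
      Submodule.smul_mem _ _ (trivRel_mem g k l x)
  have := hmap (Submodule.mem_map_of_mem h0)
  rwa [Matrix.mulVecLin_apply, Matrix.mulVec_mulVec, ← Matrix.transpose_mul,
    Matrix.mul_nonsing_inv _ hdet, Matrix.transpose_one, Matrix.one_mulVec] at this

/-- A minimal generating family of an ideal generated by a regular sequence is regular. -/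
theorem isRegular_of_minGen [IsNoetherianRing A] {n p : ℕ} {f : Fin n → A} {g : Fin p → A}
    (hf : IsWeaklyRegular A (List.ofFn f)) (hfm : ∀ i, f i ∈ maximalIdeal A)
    (hspan : Ideal.span (Set.range g) = Ideal.span (Set.range f)) (hg : MinGen g) :
    IsRegular A (List.ofFn g) := by
  have hfg := minGen_of_isWeaklyRegular hf hfm
  obtain ⟨U, hU⟩ := exists_matrix (f := f) (g := g) (hspan ▸ Ideal.subset_span)
  obtain ⟨V, hV⟩ := exists_matrix (f := g) (g := f) (hspan ▸ Ideal.subset_span)
  obtain ⟨rfl, hdet⟩ := hfg.eq_and_unit hg hU hV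
  rw [Matrix.det_mul] at hdet
  have hgm : ∀ i, g i ∈ maximalIdeal A := fun i =>
    (hspan ▸ Ideal.span_le.2 (Set.range_subset_iff.2 hfm) :
      Ideal.span (Set.range g) ≤ maximalIdeal A) (Ideal.subset_span ⟨i, rfl⟩)
  have hK : CInt.KoszulH1Zero g A := koszulH1Zero_mulVec U (isUnit_of_mul_isUnit_left hdet) hU
    (koszulH1Zero_of_isWeaklyRegular f hf)
  rw [IsLocalRing.isRegular_iff_isWeaklyRegular_of_subset_maximalIdeal
    (List.forall_mem_ofFn_iff.2 hgm)]
  exact isWeaklyRegular_of_koszulH1Zero g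
    (fun i => IsLocalRing.maximalIdeal_le_jacobson ⊥ (hgm i)) hK

/-- A regular ideal in Fin-family form. -/
lemma exists_fun_of_isRegularIdeal {I : Ideal A} (h : CInt.IsRegularIdeal I) :
    ∃ (n : ℕ) (f : Fin n → A), IsRegular A (List.ofFn f) ∧ Ideal.span (Set.range f) = I := by
  obtain ⟨rs, h1, h2⟩ := h
  refine ⟨rs.length, rs.get, by rwa [List.ofFn_get], ?_⟩
  rw [← ofList_ofFn, List.ofFn_get, h2]

lemma isRegularIdeal_of_fun {n : ℕ} {f : Fin n → A} (h : IsRegular A (List.ofFn f)) {I : Ideal A}
    (hI : Ideal.span (Set.range f) = I) : CInt.IsRegularIdeal I :=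
  ⟨_, h, by rw [ofList_ofFn, hI]⟩

lemma isWeaklyRegular_ofFn_append {a b : ℕ} (x : Fin a → A) (y : Fin b → A)
    (h : IsRegular A (List.ofFn (Fin.append x y))) :
    IsWeaklyRegular A (List.ofFn x) ∧
      IsWeaklyRegular (A ⧸ (Ideal.span (Set.range x) • ⊤ : Submodule A A)) (List.ofFn y) := by
  have := h.toIsWeaklyRegular
  rw [List.ofFn_fin_append, isWeaklyRegular_append_iff, ofList_ofFn] at this
  exact this

omit [IsLocalRing A] in
/-- Weak regularity on `A ⧸ I • ⊤` as a module gives it on the ring `A ⧸ I`. -/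
lemma isWeaklyRegular_map_quotient {I : Ideal A} {l : List A}
    (h : IsWeaklyRegular (A ⧸ (I • ⊤ : Submodule A A)) l) :
    IsWeaklyRegular (A ⧸ I) (l.map (Ideal.Quotient.mk I)) :=
  (isWeaklyRegular_map_algebraMap_iff (A ⧸ I) (A ⧸ I) l).2
    (((Submodule.quotEquivOfEq _ _ (by simp)).isWeaklyRegular_congr l).1 h)

/-- Completing a family to generators, with minimal number of added elements from `J`. -/
theorem exists_completion [IsNoetherianRing A] {a : ℕ} (x : Fin a → A) {J K : Ideal A}
    (hK : Ideal.span (Set.range x) ⊔ J = K) :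
    ∃ (b : ℕ) (y : Fin b → A), (∀ i, y i ∈ J) ∧
      Ideal.span (Set.range x) ⊔ Ideal.span (Set.range y) = K ∧
      ∀ (c : Fin a → A) (d : Fin b → A),
        ∑ i, c i * x i + ∑ i, d i * y i = 0 → ∀ i, d i ∈ maximalIdeal A := by
  classical
  have hex : ∃ b, ∃ y : Fin b → A, (∀ i, y i ∈ J) ∧
      Ideal.span (Set.range x) ⊔ Ideal.span (Set.range y) = K := by
    obtain ⟨b, y, hy⟩ := Submodule.fg_iff_exists_fin_generating_family.1 (IsNoetherian.noetherian J)
    exact ⟨b, y, fun i => hy ▸ Submodule.subset_span ⟨i, rfl⟩, by rw [← hK, ← hy]⟩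
  obtain ⟨y, hyJ, hy⟩ := Nat.find_spec hex
  refine ⟨_, y, hyJ, hy, fun c d hrel i => ?_⟩
  by_contra hi
  have hmin := @Nat.find_min _ _ hex
  revert y
  generalize hN : Nat.find hex = N at *
  intro y hyJ hy hrel
  obtain ⟨M, rfl⟩ : ∃ M, N = M + 1 := ⟨N - 1, by have := i.pos; omega⟩
  refine hmin (Nat.lt_succ_self M) ⟨y ∘ i.succAbove, fun k => hyJ _, le_antisymm
    (le_of_le_of_eq (sup_le_sup_left (Ideal.span_mono (Set.range_comp_subset_range _ _)) _) hy)
    (hy.symm.trans_le (sup_le le_sup_left (Ideal.span_le.2 ?_)))⟩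
  rintro _ ⟨k, rfl⟩
  rcases Fin.eq_self_or_eq_succAbove i k with rfl | ⟨k, rfl⟩
  · obtain ⟨u, hu⟩ := (IsLocalRing.notMem_maximalIdeal.1 hi)
    rw [Fin.sum_univ_succAbove _ k] at hrel
    have hmem : d k * y k ∈
        Ideal.span (Set.range x) ⊔ Ideal.span (Set.range (y ∘ k.succAbove)) := by
      have e : d k * y k =
          -(∑ i, c i * x i + ∑ j, d (k.succAbove j) * y (k.succAbove j)) := by
        linear_combination hrel
      rw [e]
      refine neg_mem (add_mem (Submodule.mem_sup_left ?_) (Submodule.mem_sup_right ?_)) <;>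
        exact Ideal.mem_span_range_iff_exists_fun.2 ⟨_, rfl⟩
    exact (Ideal.unit_mul_mem_iff_mem _ ⟨u, hu⟩).1 hmem
  · exact Submodule.mem_sup_right (Ideal.subset_span ⟨k, rfl⟩)

/-- The elements are independent modulo the square of the maximal ideal. -/
def IndepModSq {a : ℕ} (x : Fin a → A) : Prop :=
  ∀ c : Fin a → A, ∑ i, c i * x i ∈ maximalIdeal A ^ 2 → ∀ i, c i ∈ maximalIdeal A

/-- Minimal completion of a family independent modulo the square of the maximal ideal. -/
theorem IndepModSq.exists_minGen [IsNoetherianRing A] {a : ℕ} {x : Fin a → A} (hx : IndepModSq x)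
    {K : Ideal A} (hxK : Ideal.span (Set.range x) ≤ K) (hKm : K ≤ maximalIdeal A) :
    ∃ (b : ℕ) (y : Fin b → A), (∀ i, y i ∈ K) ∧
      Ideal.span (Set.range x) ⊔ Ideal.span (Set.range y) = K ∧ MinGen (Fin.append x y) := by
  obtain ⟨b, y, hyK, hy, hmin⟩ := exists_completion x (sup_eq_right.2 hxK)
  refine ⟨b, y, hyK, hy, fun c hc => ?_⟩
  rw [Fin.sum_univ_add] at hc
  simp only [Fin.append_left, Fin.append_right] at hc
  have hd := hmin _ _ hc
  have hcx := hx _ (by
    rw [eq_neg_of_add_eq_zero_left hc, pow_two]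
    exact neg_mem (Ideal.sum_mem _ fun i _ => Ideal.mul_mem_mul (hd i) (hKm (hyK i))))
  exact Fin.addCases hcx hd

/-- The kernel of a map of regular local rings has generators independent mod squares. -/
theorem exists_indepModSq [IsRegularLocalRing A] (J : Ideal A) [IsRegularLocalRing (A ⧸ J)] :
    ∃ (a : ℕ) (x : Fin a → A), Ideal.span (Set.range x) = J ∧ IndepModSq x := by
  obtain ⟨a, x, -, hx, hmin⟩ := exists_completion (Fin.elim0 : Fin 0 → A) (J := J) (K := J)
    (by simp)
  simp only [Set.range_eq_empty, Ideal.span_empty, bot_sup_eq] at hx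
  refine ⟨a, x, hx, fun c hc => ?_⟩
  have hmem : ∑ i, c i * x i ∈ maximalIdeal A * J := by
    rw [mul_comm]
    refine Groth.Agent.H02CA.inf_sq_le_mul_of_isRegularLocalRing J ⟨?_, hc⟩
    rw [← hx]
    exact Ideal.mem_span_range_iff_exists_fun.2 ⟨c, rfl⟩
  rw [← hx, ← Ideal.smul_eq_mul, Submodule.mem_ideal_smul_span_iff_exists_sum] at hmem
  obtain ⟨r, hr, hsum⟩ := hmem
  rw [Finsupp.sum_fintype _ _ (by simp)] at hsum
  have := hmin Fin.elim0 (fun i => c i - r i) (by
    simp only [Finset.univ_eq_empty, Finset.sum_empty, zero_add, sub_mul, Finset.sum_sub_distrib]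
    rw [sub_eq_zero, ← hsum]
    rfl)
  intro i
  simpa using add_mem (this i) (hr i)

/-- The kernel of a map of regular local rings is a regular ideal. -/
theorem isRegularIdeal_of_regular_quotient [IsRegularLocalRing A] (J : Ideal A)
    [IsRegularLocalRing (A ⧸ J)] : CInt.IsRegularIdeal J := by
  obtain ⟨a, x, hx, hind⟩ := exists_indepModSq J
  have hJne : J ≠ ⊤ := fun h => (not_nontrivial_iff_subsingleton.mpr
    (Ideal.Quotient.subsingleton_iff.mpr h)) (inferInstance : Nontrivial (A ⧸ J))
  obtain ⟨b, y, -, hy, hmin⟩ := hind.exists_minGen (K := maximalIdeal A)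
    (hx.trans_le (le_maximalIdeal hJne)) le_rfl
  obtain ⟨d, z, hd, hz⟩ := Groth.Agent.H4Depth.exists_regular_system_of_parameters A
  have hzreg := Groth.Agent.H4Depth.isRegular_ofFn_of_span_eq d hd z hz
  have hreg := isRegular_of_minGen hzreg.toIsWeaklyRegular
    (fun i => hz.le (Ideal.subset_span ⟨i, rfl⟩))
    ((span_range_append x y).trans (hy.trans hz.symm)) hmin
  refine isRegularIdeal_of_fun ?_ hx
  rw [IsLocalRing.isRegular_iff_isWeaklyRegular_of_subset_maximalIdeal
    (List.forall_mem_ofFn_iff.2 fun i =>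
      le_maximalIdeal hJne (hx.le (Ideal.subset_span ⟨i, rfl⟩)))]
  exact (isWeaklyRegular_ofFn_append x y hreg).1

/-- Lifting a regular quotient through a regular ideal. -/
theorem isRegularLocalRing_of_isRegularIdeal [IsNoetherianRing A] (J : Ideal A)
    [IsRegularLocalRing (A ⧸ J)] (hJ : CInt.IsRegularIdeal J) : IsRegularLocalRing A := by
  classical
  obtain ⟨rs, hrs, rfl⟩ := hJ
  obtain ⟨d, z, hd, hz⟩ := Groth.Agent.H4Depth.exists_regular_system_of_parameters (A ⧸ Ideal.ofList rs)
  have hdim := ringKrullDim_add_length_eq_ringKrullDim_of_isRegular rs hrs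
  rw [hd] at hdim
  choose w hw using fun i => Ideal.Quotient.mk_surjective (z i)
  have hne : Ideal.ofList rs ≠ ⊤ := fun h => (not_nontrivial_iff_subsingleton.mpr
    (Ideal.Quotient.subsingleton_iff.mpr h)) (inferInstance : Nontrivial (A ⧸ Ideal.ofList rs))
  have hm : maximalIdeal A =
      Ideal.span (↑(rs.toFinset ∪ Finset.univ.image w) : Set A) := by
    have h1 : Ideal.span (↑(rs.toFinset ∪ Finset.univ.image w) : Set A) =
        Ideal.ofList rs ⊔ Ideal.span (Set.range w) := by
      simp [Ideal.ofList, Ideal.span_union]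
    have h2 : (Ideal.span (Set.range w)).map (Ideal.Quotient.mk (Ideal.ofList rs)) =
        maximalIdeal (A ⧸ Ideal.ofList rs) := by
      rw [Ideal.map_span, ← hz, ← Set.range_comp]
      congr 2
      funext i
      exact hw i
    haveI := Ideal.Quotient.nontrivial_iff.2 hne
    have h3 : (maximalIdeal (A ⧸ Ideal.ofList rs)).comap (Ideal.Quotient.mk (Ideal.ofList rs)) =
        maximalIdeal A := by
      haveI : IsLocalHom (Ideal.Quotient.mk (Ideal.ofList rs)) :=
        IsLocalHom.of_surjective _ Ideal.Quotient.mk_surjective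
      exact (maximalIdeal_comap _)
    rw [h1, ← h3, ← h2, Ideal.comap_map_of_surjective' _ Ideal.Quotient.mk_surjective,
      Ideal.mk_ker, sup_comm]
  refine IsRegularLocalRing.of_spanFinrank_maximalIdeal_le A ?_
  rw [← hdim]
  have hc : (maximalIdeal A).spanFinrank ≤ d + rs.length := by
    rw [hm]
    refine (Submodule.spanFinrank_span_le_ncard_of_finite (Finset.finite_toSet _)).trans ?_
    rw [Set.ncard_coe_finset]
    refine (Finset.card_union_le _ _).trans ?_
    have := List.toFinset_card_le rs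
    have := (Finset.card_image_le (s := (Finset.univ : Finset (Fin d))) (f := w))
    simp only [Finset.card_univ, Fintype.card_fin] at this
    omega
  exact_mod_cast hc

end H13CInt
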