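import Groth.Agent.H13CInt.QuasiReg
import Groth.Agent.S6304
import Mathlib.Algebra.Order.Antidiag.Finsupp
import Mathlib.LinearAlgebra.Quotient.Pi

/-!
# Flatness of quotients by powers of a regular sequence
-/

universe u

open MvPolynomial RingTheory.Sequence

namespace H13CInt

variable {A B : Type u} [CommRing A] [CommRing B] [Algebra A B] {r : ℕ} {f : Fin r → B}

theorem flat_quotient_pow (hq : CAlgX.IsQuasiRegular f)
    [Module.Flat A (B ⧸ Ideal.span (Set.range f))] :
    ∀ k : ℕ, Module.Flat A (B ⧸ Ideal.span (Set.range f) ^ k) := by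
  classical
  set J := Ideal.span (Set.range f) with hJ
  intro k
  induction k with
  | zero =>
    haveI : Subsingleton (B ⧸ J ^ 0) := Ideal.Quotient.subsingleton_iff.2 (by simp [Ideal.one_eq_top])
    infer_instance
  | succ k ih =>
    let ι := ↥((Finset.univ : Finset (Fin r)).finsuppAntidiag k)
    let poly : (ι → B) → MvPolynomial (Fin r) B := fun c => ∑ d : ι, monomial d.1 (c d)
    have hdeg : ∀ d : ι, d.1.degree = k := fun d => by
      have := (Finset.mem_finsuppAntidiag.1 d.2).1
      rw [Finsupp.degree_apply]
      refine Eq.trans ?_ this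
      exact Finset.sum_subset (Finset.subset_univ _) fun i _ hi => by simpa using hi
    have hmem : ∀ d : Fin r →₀ ℕ, d.degree = k →
        d ∈ (Finset.univ : Finset (Fin r)).finsuppAntidiag k := fun d hd => by
      refine Finset.mem_finsuppAntidiag.2 ⟨?_, Finset.subset_univ _⟩
      rw [← hd, Finsupp.degree_apply]
      exact (Finset.sum_subset (Finset.subset_univ _) fun i _ hi => by simpa using hi).symm
    have hhom : ∀ c, (poly c).IsHomogeneous k := fun c =>
      IsHomogeneous.sum _ _ _ fun d _ => isHomogeneous_monomial _ (hdeg d)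
    have hcoeff : ∀ c (d : ι), (poly c).coeff d.1 = c d := fun c d => by
      simp only [poly, coeff_sum, coeff_monomial]
      rw [Finset.sum_eq_single d (fun b _ hb => if_neg fun e => hb (Subtype.ext e)) (by simp)]
      simp
    let φ : (ι → B) →ₗ[B] B ⧸ J ^ (k + 1) :=
      { toFun := fun c => Ideal.Quotient.mk _ (eval f (poly c))
        map_add' := fun a b => by
          have : poly (a + b) = poly a + poly b := by simp [poly, Finset.sum_add_distrib]
          rw [this, map_add, map_add]
        map_smul' := fun a b => by
          have : poly (a • b) = C a * poly b := by simp [poly, Finset.mul_sum, C_mul_monomial]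
          rw [this, map_mul, eval_C, map_mul, RingHom.id_apply]
          rfl }
    have hker : LinearMap.ker φ = Submodule.pi Set.univ (fun _ : ι => (J : Submodule B B)) := by
      ext c
      rw [LinearMap.mem_ker, Submodule.mem_pi]
      show Ideal.Quotient.mk _ (eval f (poly c)) = 0 ↔ _
      rw [Ideal.Quotient.eq_zero_iff_mem]
      constructor
      · intro h d _
        rw [← hcoeff c d]
        exact hq k _ (hhom c) h _
      · intro h
        refine eval_mem_succ (hhom c) fun d => ?_
        simp only [poly, coeff_sum, coeff_monomial]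
        refine Ideal.sum_mem _ fun e _ => ?_
        split_ifs
        · exact h e trivial
        · exact zero_mem _
    let π : (B ⧸ J ^ (k + 1)) →ₗ[B] B ⧸ J ^ k :=
      Submodule.factor (Ideal.pow_le_pow_right k.le_succ)
    have hrange : LinearMap.range φ = LinearMap.ker π := by
      ext x
      obtain ⟨x, rfl⟩ := Ideal.Quotient.mk_surjective x
      rw [LinearMap.mem_ker, LinearMap.mem_range]
      have hπ : π (Ideal.Quotient.mk _ x) = Ideal.Quotient.mk _ x := rfl
      rw [hπ, Ideal.Quotient.eq_zero_iff_mem]
      constructor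
      · rintro ⟨c, hc⟩
        have hc' : eval f (poly c) - x ∈ J ^ (k + 1) := Ideal.Quotient.eq.1 hc
        simpa using sub_mem (Groth.Agent.H06QR.eval_mem f (hhom c))
          (Ideal.pow_le_pow_right k.le_succ hc')
      · intro hx
        obtain ⟨P, hP, rfl⟩ := Groth.Agent.H06QR.exists_homogeneous f hx
        refine ⟨fun d => P.coeff d.1, ?_⟩
        have : poly (fun d => P.coeff d.1) = P := by
          ext d
          by_cases hd : d.degree = k
          · exact hcoeff _ ⟨d, hmem d hd⟩
          · rw [(hhom _).coeff_eq_zero hd, hP.coeff_eq_zero hd]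
        show Ideal.Quotient.mk _ (eval f (poly _)) = _
        rw [this]
    haveI : Module.Flat A (ι → B ⧸ J) := by
      exact Module.Flat.of_linearEquiv (DirectSum.linearEquivFunOnFintype A ι (fun _ => B ⧸ J)).symm
    haveI : Module.Flat A ↥(LinearMap.ker π) :=
      Module.Flat.of_linearEquiv ((LinearEquiv.restrictScalars A
        ((LinearEquiv.ofEq _ _ hrange.symm) ≪≫ₗ φ.quotKerEquivRange.symm ≪≫ₗ
          Submodule.quotEquivOfEq _ _ hker ≪≫ₗ Submodule.quotientPi _)))
    haveI := ih
    exact (Groth.Agent.S6304.result ((LinearMap.ker π).subtype.restrictScalars A)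
      (π.restrictScalars A) (Submodule.injective_subtype _)
      (fun x => by simpa using (LinearMap.exact_subtype_ker_map π x))
      (Submodule.factor_surjective (Ideal.pow_le_pow_right k.le_succ))).1 inferInstance

theorem flat_pow [Module.Flat A B] (I : Ideal B) [Module.Flat A (B ⧸ I)] :
    Module.Flat A ↥I :=
  (Groth.Agent.S6304.result ((Submodule.subtype I).restrictScalars A)
    ((Submodule.mkQ I).restrictScalars A) (Submodule.injective_subtype _)
    (fun x => LinearMap.exact_subtype_mkQ I x) (Submodule.mkQ_surjective _)).2 inferInstance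

theorem flat_pow_quotient (I I' : Ideal B) (h : I' ≤ I) [Module.Flat A (B ⧸ I)]
    [Module.Flat A (B ⧸ I')] :
    Module.Flat A (↥I ⧸ Submodule.comap I.subtype I') := by
  let i : (↥I ⧸ Submodule.comap I.subtype I') →ₗ[B] B ⧸ I' :=
    Submodule.mapQ _ _ I.subtype le_rfl
  let p : (B ⧸ I') →ₗ[B] B ⧸ I := Submodule.factor h
  have hi : Function.Injective i := LinearMap.ker_eq_bot.1 (by
    simp [i, Submodule.ker_mapQ, Submodule.map_comap_eq, Submodule.mkQ_map_self])
  have hex : Function.Exact i p := by
    intro x
    obtain ⟨x, rfl⟩ := Submodule.mkQ_surjective _ x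
    show Submodule.Quotient.mk x = 0 ↔ _
    rw [Submodule.Quotient.mk_eq_zero]
    constructor
    · exact fun hx => ⟨Submodule.Quotient.mk ⟨x, hx⟩, rfl⟩
    · rintro ⟨y, hy⟩
      obtain ⟨⟨y, hyI⟩, rfl⟩ := Submodule.mkQ_surjective _ y
      have : y - x ∈ I' := (Submodule.Quotient.eq _).1 hy
      simpa using sub_mem hyI (h this)
  exact (Groth.Agent.S6304.result (i.restrictScalars A) (p.restrictScalars A) hi hex
    (Submodule.factor_surjective h)).2 inferInstance

end H13CInt
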