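import Groth.Agent.H06QR.Basic
import Groth.Agent.H13CInt.Spread
import Mathlib.Algebra.MvPolynomial.Division
import Mathlib.RingTheory.MvPolynomial.Homogeneous
import Mathlib.RingTheory.Flat.Localization

/-!
# Weakly regular sequences are quasi-regular; flatness of powers
-/

universe u

open MvPolynomial RingTheory.Sequence

namespace H13CInt

variable {R : Type u} [CommRing R] {r : ℕ} {f : Fin r → R}

/-- Coefficients in the ideal and homogeneity push the value one power further. -/
lemma eval_mem_succ {k : ℕ} {P : MvPolynomial (Fin r) R} (hP : P.IsHomogeneous k)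
    (hc : ∀ d, P.coeff d ∈ Ideal.span (Set.range f)) :
    eval f P ∈ Ideal.span (Set.range f) ^ (k + 1) := by
  rw [P.as_sum, map_sum]
  refine Ideal.sum_mem _ fun d hd => ?_
  have h1 : (monomial d (1 : R)).IsHomogeneous k :=
    isHomogeneous_monomial _ (by rw [Finsupp.degree_apply]; exact (hP.degree_eq_sum_deg_support hd).symm)
  have h2 : eval f (monomial d (P.coeff d)) = P.coeff d * eval f (monomial d 1) := by
    simp [eval_monomial]
  rw [h2, pow_succ']
  exact Ideal.mul_mem_mul (hc d) (Groth.Agent.H06QR.eval_mem f h1)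

lemma exists_sum_of_mem_pow_succ {n : ℕ} {x : R} (hx : x ∈ Ideal.span (Set.range f) ^ (n + 1)) :
    ∃ y : Fin r → R, (∀ i, y i ∈ Ideal.span (Set.range f) ^ n) ∧ ∑ i, y i * f i = x := by
  rw [pow_succ, ← Ideal.smul_eq_mul, Submodule.mem_ideal_smul_span_iff_exists_sum] at hx
  obtain ⟨a, ha, rfl⟩ := hx
  exact ⟨a, ha, (Finsupp.sum_fintype a (fun i c => c • f i) (by simp)).symm⟩

/-- It suffices to test polynomials vanishing at the sequence. -/
lemma coeff_mem_of_eval_mem {n : ℕ}
    (h0 : ∀ F : MvPolynomial (Fin r) R, F.IsHomogeneous n → eval f F = 0 →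
      ∀ d, F.coeff d ∈ Ideal.span (Set.range f))
    (F : MvPolynomial (Fin r) R) (hF : F.IsHomogeneous n)
    (he : eval f F ∈ Ideal.span (Set.range f) ^ (n + 1)) (d : Fin r →₀ ℕ) :
    F.coeff d ∈ Ideal.span (Set.range f) := by
  obtain ⟨y, hy, hsum⟩ := exists_sum_of_mem_pow_succ he
  choose G hG hGe using fun i => Groth.Agent.H06QR.exists_homogeneous f (hy i)
  have hhom : (F - ∑ i, C (f i) * G i).IsHomogeneous n :=
    hF.sub (IsHomogeneous.sum _ _ _ fun i _ => (hG i).C_mul _)
  have h := h0 _ hhom (by simp [hGe, ← hsum, mul_comm]) d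
  rw [coeff_sub, coeff_sum] at h
  have h2 : ∑ i, (C (f i) * G i).coeff d ∈ Ideal.span (Set.range f) :=
    Ideal.sum_mem _ fun i _ => by
      rw [coeff_C_mul]
      exact Ideal.mul_mem_right _ _ (Ideal.subset_span ⟨i, rfl⟩)
  simpa using add_mem h h2

/-- A nonzerodivisor modulo a quasi-regular ideal is one modulo its powers. -/
lemma mem_pow_of_mul_mem (hf : CAlgX.IsQuasiRegular f) {g : R}
    (hg : ∀ c, c * g ∈ Ideal.span (Set.range f) → c ∈ Ideal.span (Set.range f)) :
    ∀ (k : ℕ) (x : R), x * g ∈ Ideal.span (Set.range f) ^ k →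
      x ∈ Ideal.span (Set.range f) ^ k := by
  intro k
  induction k with
  | zero => intro x _; simp [Ideal.one_eq_top]
  | succ k ih =>
    intro x hx
    obtain ⟨P, hP, rfl⟩ := Groth.Agent.H06QR.exists_homogeneous f
      (ih x (Ideal.pow_le_pow_right k.le_succ hx))
    refine eval_mem_succ hP fun d => hg _ ?_
    have h := hf k (C g * P) (hP.C_mul g) (by simpa [mul_comm] using hx) d
    rwa [coeff_C_mul, mul_comm] at h

lemma isQuasiRegular_of_isWeaklyRegular : ∀ {r : ℕ} (f : Fin r → R),
    IsWeaklyRegular R (List.ofFn f) → CAlgX.IsQuasiRegular f := by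
  intro r
  induction r with
  | zero =>
    intro f _ n P hP he d
    have hd : d = 0 := Subsingleton.elim _ _
    subst hd
    have hbot : Ideal.span (Set.range f) = ⊥ := by simp
    rw [hbot] at he ⊢
    rw [Ideal.mem_bot]
    have hval : eval f P = P.coeff 0 := by
      conv_lhs => rw [P.as_sum]
      rw [map_sum, Finset.sum_eq_single 0 (fun b _ hb => absurd (Subsingleton.elim b 0) hb)
        (fun h => by simp [notMem_support_iff.1 h])]
      simp
    rw [hval] at he
    simpa [Ideal.bot_pow] using he
  | succ r ih =>
    intro f hf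
    set f' : Fin r → R := fun i => f i.castSucc with hf'def
    set g := f (Fin.last r)
    have hreg := (isWeaklyRegular_ofFn_iff f).1 hf
    have hw' : IsWeaklyRegular R (List.ofFn f') := by
      rw [List.ofFn_succ', List.concat_eq_append, isWeaklyRegular_append_iff] at hf
      exact hf.1
    have hQ := ih f' hw'
    have himg : f '' Set.Iio (Fin.last r) = Set.range f' := by
      ext x
      constructor
      · rintro ⟨i, hi, rfl⟩
        exact ⟨⟨i, hi⟩, congrArg f (Fin.ext rfl)⟩
      · rintro ⟨i, rfl⟩
        exact ⟨_, i.castSucc_lt_last, rfl⟩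
    have hg : ∀ c, c * g ∈ Ideal.span (Set.range f') → c ∈ Ideal.span (Set.range f') := by
      have := hreg (Fin.last r)
      rwa [himg] at this
    have hJ' : Ideal.span (Set.range f') ≤ Ideal.span (Set.range f) :=
      Ideal.span_mono (Set.range_comp_subset_range _ f)
    have step : ∀ n, (∀ m, m + 1 = n → ∀ H : MvPolynomial (Fin (r + 1)) R, H.IsHomogeneous m →
        eval f H ∈ Ideal.span (Set.range f) ^ (m + 1) →
          ∀ d, H.coeff d ∈ Ideal.span (Set.range f)) →
        ∀ F : MvPolynomial (Fin (r + 1)) R, F.IsHomogeneous n → eval f F = 0 →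
          ∀ d, F.coeff d ∈ Ideal.span (Set.range f) := by
      intro n hIH F hF hF0
      set s : Fin (r + 1) →₀ ℕ := Finsupp.single (Fin.last r) 1
      set H := F.divMonomial s with hHdef
      set G₀ := F.modMonomial s with hG₀def
      have hdecomp : G₀ + X (Fin.last r) * H = F := F.modMonomial_add_divMonomial_single _
      have hle : ∀ d : Fin (r + 1) →₀ ℕ, s ≤ d ↔ d (Fin.last r) ≠ 0 := fun d => by
        rw [Finsupp.single_le_iff, Nat.one_le_iff_ne_zero]
      have hG₀vars : (G₀.vars : Set (Fin (r + 1))) ⊆ Set.range (Fin.castSucc : Fin r → _) := by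
        intro i hi
        rw [Finset.mem_coe, mem_vars_iff_mem_support] at hi
        obtain ⟨d, hd, hid⟩ := hi
        rcases Fin.eq_castSucc_or_eq_last i with ⟨j, rfl⟩ | rfl
        · exact ⟨j, rfl⟩
        · exfalso
          rw [mem_support_iff] at hd
          exact hd (coeff_modMonomial_of_le F ((hle d).2 (Finsupp.mem_support_iff.1 hid)))
      obtain ⟨G, hG⟩ := exists_rename_eq_of_vars_subset_range G₀ Fin.castSucc
        (Fin.castSucc_injective r) hG₀vars
      have hG₀hom : G₀.IsHomogeneous n := by
        intro d hd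
        refine hF (fun h => hd ?_)
        by_cases hsd : s ≤ d
        · exact coeff_modMonomial_of_le F hsd
        · exact (coeff_modMonomial_of_not_le F hsd).trans h
      have hGhom : G.IsHomogeneous n :=
        (IsHomogeneous.rename_isHomogeneous_iff (Fin.castSucc_injective r)).1 (hG.symm ▸ hG₀hom)
      have hGe : eval f G₀ = eval f' G := by rw [← hG, eval_rename]; rfl
      have hHcoeff : ∀ d, H.coeff d = F.coeff (s + d) := fun d => coeff_divMonomial s F d
      have heq : eval f G₀ + g * eval f H = 0 := by
        rw [← hF0, ← hdecomp]; simp [g]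
      have hX : ∀ d, (X (Fin.last r) * H).coeff d ∈ Ideal.span (Set.range f) →
          G₀.coeff d ∈ Ideal.span (Set.range f) → F.coeff d ∈ Ideal.span (Set.range f) :=
        fun d h1 h2 => by rw [← hdecomp, coeff_add]; exact add_mem h2 h1
      have hdeg : ∀ d, H.coeff d ≠ 0 → d.degree + 1 = n := fun d hd => by
        rw [hHcoeff] at hd
        have : (s + d).degree = n := by
          by_contra h
          exact hd (hF.coeff_eq_zero h)
        rw [map_add, Finsupp.degree_single] at this
        omega
      obtain ⟨h, hh, hhe, hHmem⟩ : ∃ h : MvPolynomial (Fin r) R, h.IsHomogeneous n ∧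
          eval f' h = eval f H ∧ ∀ d, H.coeff d ∈ Ideal.span (Set.range f) := by
        rcases n with _ | m
        · have hH0 : H = 0 := MvPolynomial.ext _ _ fun d => by
            by_contra hd
            exact absurd (hdeg d (by simpa using hd)) (by omega)
          exact ⟨0, isHomogeneous_zero _ _ _, by simp [hH0], fun d => by simp [hH0]⟩
        · have hHhom : H.IsHomogeneous m := fun d hd => by
            have := hdeg d hd
            have e : d.degree = (Finsupp.weight (1 : Fin (r + 1) → ℕ)) d := by
              rw [Finsupp.degree_eq_weight_one]; rfl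
            rw [← e]
            omega
          have hmem : eval f H ∈ Ideal.span (Set.range f') ^ (m + 1) := by
            refine mem_pow_of_mul_mem hQ hg _ _ ?_
            rw [mul_comm, eq_neg_of_add_eq_zero_right heq, hGe]
            exact neg_mem (Groth.Agent.H06QR.eval_mem f' hGhom)
          obtain ⟨h, hh, hhe⟩ := Groth.Agent.H06QR.exists_homogeneous f' hmem
          exact ⟨h, hh, hhe, hIH m rfl H hHhom (Ideal.pow_right_mono hJ' _ hmem)⟩
      intro d
      refine hX d ?_ ?_
      · rw [coeff_X_mul']
        split_ifs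
        · exact hHmem _
        · exact zero_mem _
      · have h0 : eval f' (G + C g * h) = 0 := by
          simp only [map_add, map_mul, eval_C, hhe, ← hGe]
          exact heq
        have hc := hQ n (G + C g * h) (hGhom.add (hh.C_mul g)) (h0 ▸ zero_mem _)
        rw [← hG]
        by_cases hd : ∃ e, Finsupp.mapDomain Fin.castSucc e = d
        · obtain ⟨e, rfl⟩ := hd
          rw [coeff_rename_mapDomain _ (Fin.castSucc_injective r)]
          have := hc e
          rw [coeff_add, coeff_C_mul] at this
          have hgm : g * h.coeff e ∈ Ideal.span (Set.range f) :=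
            Ideal.mul_mem_right _ _ (Ideal.subset_span ⟨_, rfl⟩)
          simpa using sub_mem (hJ' this) hgm
        · rw [coeff_rename_eq_zero _ _ _ fun u hu => absurd ⟨u, hu⟩ hd]
          exact zero_mem _
    intro n
    induction n with
    | zero => exact coeff_mem_of_eval_mem (step 0 fun m hm => absurd hm (by omega))
    | succ n ihn =>
      exact coeff_mem_of_eval_mem (step (n + 1) fun m hm => by
        obtain rfl : m = n := by omega
        exact ihn)

/-- Localizations of an `A`-flat module are `A`-flat. -/
theorem flat_localizedModule {A B : Type u} [CommRing A] [CommRing B] [Algebra A B]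
    (S : Submonoid B) (M : Type u) [AddCommGroup M] [Module A M] [Module B M] [IsScalarTower A B M]
    {Mₚ : Type u} [AddCommGroup Mₚ] [Module A Mₚ] [Module B Mₚ] [IsScalarTower A B Mₚ]
    (φ : M →ₗ[B] Mₚ) [IsLocalizedModule S φ] [Module.Flat A M] : Module.Flat A Mₚ := by
  have hM : Module.Flat A M := inferInstance
  rw [Module.Flat.iff_lTensor_injectiveₛ] at hM ⊢
  intro P _ _ N
  have h := IsLocalizedModule.map_injective S
    (TensorProduct.AlgebraTensorModule.rTensor A N φ)
    (TensorProduct.AlgebraTensorModule.rTensor A P φ)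
    (TensorProduct.AlgebraTensorModule.lTensor B M N.subtype) (hM N)
  simpa [IsLocalizedModule.map_lTensor, TensorProduct.AlgebraTensorModule.coe_lTensor] using h

end H13CInt
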