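import Groth.Prelude.Def_CInt
import Groth.Agent.H05EGA4.FlatRegular
import Mathlib.RingTheory.Flat.Basic
import Mathlib.RingTheory.Filtration

/-!
# Regular sequences on powers of an ideal along which the ring is normally flat
-/

universe u

open RingTheory.Sequence

namespace H13CInt

variable {A : Type u} [CommRing A]

/-- `I/I'` as a module. -/
abbrev subQuot (I I' : Ideal A) : Type u := ↥I ⧸ Submodule.comap I.subtype I'

lemma isWeaklyRegular_subQuot_of_ends {fs : List A} {I₀ I₁ I₂ : Ideal A} (h₁₀ : I₁ ≤ I₀)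
    (h₂₁ : I₂ ≤ I₁) (hl : IsWeaklyRegular (subQuot I₁ I₂) fs)
    (hr : IsWeaklyRegular (subQuot I₀ I₁) fs) : IsWeaklyRegular (subQuot I₀ I₂) fs := by
  let i : subQuot I₁ I₂ →ₗ[A] subQuot I₀ I₂ :=
    Submodule.mapQ _ _ (Submodule.inclusion h₁₀) (fun x hx => hx)
  let p : subQuot I₀ I₂ →ₗ[A] subQuot I₀ I₁ := Submodule.factor (fun x hx => h₂₁ hx)
  have hi : Function.Injective i := by
    rw [injective_iff_map_eq_zero]
    intro z hz
    obtain ⟨z, rfl⟩ := Submodule.mkQ_surjective _ z
    exact (Submodule.Quotient.mk_eq_zero (Submodule.comap I₁.subtype I₂)).2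
      ((Submodule.Quotient.mk_eq_zero (Submodule.comap I₀.subtype I₂)).1 hz :)
  have hex : Function.Exact i p := by
    intro z
    obtain ⟨z, rfl⟩ := Submodule.mkQ_surjective _ z
    show Submodule.Quotient.mk z = 0 ↔ _
    rw [Submodule.Quotient.mk_eq_zero]
    constructor
    · exact fun hz => ⟨Submodule.Quotient.mk ⟨z.1, hz⟩, rfl⟩
    · rintro ⟨w, hw⟩
      obtain ⟨w, rfl⟩ := Submodule.mkQ_surjective _ w
      have : w.1 - z.1 ∈ I₂ := (Submodule.Quotient.eq (Submodule.comap I₀.subtype I₂)).1 hw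
      show z.1 ∈ I₁
      simpa using sub_mem w.2 (h₂₁ this)
  exact Groth.Agent.H05EGA4.isWeaklyRegular_of_exact fs i p hi
    (Submodule.factor_surjective _) hex hl hr

lemma comap_subtype_mul (I I' : Ideal A) :
    Submodule.comap I.subtype (I' * I) = I' • (⊤ : Submodule A ↥I) := by
  have : (I' • (⊤ : Submodule A ↥I)).map I.subtype = I' * I := by
    rw [Submodule.map_smul'', Submodule.map_subtype_top, smul_eq_mul]
  rw [← this, Submodule.comap_map_eq_of_injective (Submodule.injective_subtype _)]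

lemma isWeaklyRegular_of_flat_quotient {J : Ideal A} {fs : List A}
    (hreg : IsWeaklyRegular (A ⧸ J) fs) (N : Type u) [AddCommGroup N] [Module A N]
    [Module (A ⧸ J) N] [IsScalarTower A (A ⧸ J) N] [Module.Flat (A ⧸ J) N] :
    IsWeaklyRegular N fs := by
  rw [← isWeaklyRegular_map_algebraMap_iff (A ⧸ J) (A ⧸ J)] at hreg
  rw [← isWeaklyRegular_map_algebraMap_iff (A ⧸ J) N]
  exact ((TensorProduct.lid (A ⧸ J) N).isWeaklyRegular_congr _).1
    (hreg.isWeaklyRegular_rTensor (M₂ := N))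

/-- Weak regularity can be tested modulo all powers of an ideal in the Jacobson radical. -/
lemma isWeaklyRegular_of_forall_quotient [IsNoetherianRing A] {J : Ideal A}
    (hJ : J ≤ Ideal.jacobson ⊥) {N : Type u} [AddCommGroup N] [Module A N] [Module.Finite A N]
    {fs : List A} (h : ∀ m : ℕ, IsWeaklyRegular (N ⧸ (J ^ m • ⊤ : Submodule A N)) fs) :
    IsWeaklyRegular N fs := by
  refine ⟨fun i hi => (isSMulRegular_quotient_iff_mem_of_smul_mem _ _).2 fun x hx => ?_⟩
  set L : Submodule A N := Ideal.ofList (fs.take i) • ⊤ with hL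
  have hxm : ∀ m : ℕ, x ∈ L ⊔ J ^ m • ⊤ := by
    intro m
    have h1 := (isSMulRegular_quotient_iff_mem_of_smul_mem _ _).1 ((h m).regular_mod_prev i hi)
      (Submodule.Quotient.mk x)
    have hmap : (Ideal.ofList (fs.take i) • ⊤ : Submodule A (N ⧸ (J ^ m • ⊤ : Submodule A N))) =
        L.map (J ^ m • ⊤ : Submodule A N).mkQ := by
      rw [hL, Submodule.map_smul'', Submodule.map_top, Submodule.range_mkQ]
    rw [hmap] at h1
    have h2 := h1 (by rw [← Submodule.Quotient.mk_smul]; exact Submodule.mem_map_of_mem hx)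
    have h3 : x ∈ Submodule.comap (J ^ m • ⊤ : Submodule A N).mkQ
        (L.map (J ^ m • ⊤ : Submodule A N).mkQ) := h2
    rwa [Submodule.comap_map_mkQ, sup_comm] at h3
  have hk : (⨅ m : ℕ, J ^ m • ⊤ : Submodule A (N ⧸ L)) = ⊥ :=
    Ideal.iInf_pow_smul_eq_bot_of_le_jacobson J hJ
  rw [← Submodule.Quotient.mk_eq_zero L, ← Submodule.mem_bot A, ← hk, Submodule.mem_iInf]
  intro m
  obtain ⟨a, ha, b, hb, rfl⟩ := Submodule.mem_sup.1 (hxm m)
  rw [Submodule.Quotient.mk_add, (Submodule.Quotient.mk_eq_zero L).2 ha, zero_add]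
  have := Submodule.mem_map_of_mem (f := L.mkQ) hb
  rw [Submodule.map_smul''] at this
  exact Submodule.smul_mono le_rfl le_top this

end H13CInt
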